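import Cfsg.Agent.Lib.Techniques.PPrimeAbelian.Basic
import Cfsg.Agent.Lib.Classical.NoncyclicCenter
import Cfsg.Agent.Lib.Signalizer.Solvable.Main
import Cfsg.Agent.Lib.TwoGroups.StrongEmbedding
import Cfsg.Agent.Lib.PLocal.PConstrained
import Cfsg.Agent.Lib.Core.PLengthTwoMaximal
import Cfsg.Agent.Lib.LocalEven.Generation

/-!
Owner: helper11. A minimal simple group of even order all of whose `p'`-subgroups are abelian of
exponent dividing `p - 1`: the centralisers of involutions lie in a strongly embedded maximal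
subgroup.
-/

set_option autoImplicit false
set_option linter.all false
set_option maxHeartbeats 400000

namespace CfsgLib.Techniques.PPrimeAbelian

open Subgroup
open CfsgLib.Classical.TwoType (oC)

/-! ### Solvable groups with abelian Sylow 2-subgroups -/

section Solvable

variable {K : Type*} [Group K] [Finite K]

theorem sup_oddCore_normal (hK : Group.IsSolvable K) (S : Sylow 2 K)
    (hS : IsMulCommutative (S : Subgroup K)) :
    ((S : Subgroup K) ⊔ Cfsg.oddCore K).Normal := by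
  haveI : Fact (Nat.Prime 2) := ⟨Nat.prime_two⟩
  haveI : (Cfsg.oddCore K).Normal := CfsgLib.Core.normal_pPrimeCore 2 K
  set π := QuotientGroup.mk' (Cfsg.oddCore K) with hπ
  have hc := CfsgLib.PLocal.isPConstrained_iff.1 (CfsgLib.PLocal.isPConstrained_of_isPSolvable
    (CfsgLib.Core.isPSolvable_of_isSolvable (p := 2) hK))
  let Sb : Sylow 2 (K ⧸ Cfsg.oddCore K) := S.mapSurjective (QuotientGroup.mk'_surjective _)
  have hTS : Cfsg.pCore 2 (K ⧸ Cfsg.oddCore K) ≤ Sb := CfsgLib.Core.pCore_le_sylow Sb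
  have hST : (Sb : Subgroup (K ⧸ Cfsg.oddCore K)) ≤ Cfsg.pCore 2 (K ⧸ Cfsg.oddCore K) := by
    refine le_trans ?_ hc
    rintro _ ⟨s, hs, rfl⟩
    refine mem_centralizer_iff.2 fun t ht => ?_
    obtain ⟨s', hs', rfl⟩ := hTS ht
    haveI := hS
    rw [← map_mul, ← map_mul]
    exact congrArg π (congrArg Subtype.val
      (mul_comm' (⟨s', hs'⟩ : (S : Subgroup K)) ⟨s, hs⟩))
  have he : (S : Subgroup K) ⊔ Cfsg.oddCore K =
      (Cfsg.pCore 2 (K ⧸ Cfsg.oddCore K)).comap π := by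
    rw [← le_antisymm hST hTS]
    show _ = ((S : Subgroup K).map π).comap π
    rw [comap_map_eq, hπ, QuotientGroup.ker_mk']
  rw [he]
  haveI := CfsgLib.Core.normal_pCore 2 (K ⧸ Cfsg.oddCore K)
  infer_instance

theorem oddCore_sup_normalizer (hK : Group.IsSolvable K) (S : Sylow 2 K)
    (hS : IsMulCommutative (S : Subgroup K)) :
    Cfsg.oddCore K ⊔ normalizer ((S : Subgroup K) : Set K) = ⊤ := by
  haveI : Fact (Nat.Prime 2) := ⟨Nat.prime_two⟩
  haveI := sup_oddCore_normal hK S hS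
  have h := Sylow.normalizer_sup_eq_top' (N := (S : Subgroup K) ⊔ Cfsg.oddCore K) S le_sup_left
  rw [eq_top_iff, ← h]
  exact sup_le le_sup_right (sup_le (le_normalizer.trans le_sup_right) le_sup_left)

theorem le_oddCore_of_normalized (hK : Group.IsSolvable K) (S : Sylow 2 K)
    (hS : IsMulCommutative (S : Subgroup K)) {Y : Subgroup K} (hY : Odd (Nat.card Y))
    (hSY : (S : Subgroup K) ≤ normalizer (Y : Set K)) : Y ≤ Cfsg.oddCore K := by
  haveI : Fact (Nat.Prime 2) := ⟨Nat.prime_two⟩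
  haveI : (Cfsg.oddCore K).Normal := CfsgLib.Core.normal_pPrimeCore 2 K
  set π := QuotientGroup.mk' (Cfsg.oddCore K) with hπ
  have hc := CfsgLib.PLocal.isPConstrained_iff.1 (CfsgLib.PLocal.isPConstrained_of_isPSolvable
    (CfsgLib.Core.isPSolvable_of_isSolvable (p := 2) hK))
  haveI := CfsgLib.Core.normal_pCore 2 (K ⧸ Cfsg.oddCore K)
  intro y hy
  have hT2 : IsPGroup 2 (Cfsg.pCore 2 (K ⧸ Cfsg.oddCore K)) := CfsgLib.Core.isPGroup_pCore 2 _
  have hyT : π y ∈ Cfsg.pCore 2 (K ⧸ Cfsg.oddCore K) := by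
    refine hc (mem_centralizer_iff.2 fun t ht => ?_)
    obtain ⟨s, hs, rfl⟩ :=
      (CfsgLib.Core.pCore_le_sylow (S.mapSurjective (QuotientGroup.mk'_surjective _)) ht :
        _ ∈ (S : Subgroup K).map π)
    have h1 : s * y * s⁻¹ * y⁻¹ ∈ Y :=
      mul_mem ((mem_normalizer_iff.1 (hSY hs) y).1 hy) (inv_mem hy)
    have h2 : π (s * y * s⁻¹ * y⁻¹) ∈ Cfsg.pCore 2 (K ⧸ Cfsg.oddCore K) := by
      rw [map_mul, map_mul, map_mul, mul_assoc (π s), mul_assoc (π s), map_inv, map_inv]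
      exact mul_mem ht (Subgroup.Normal.conj_mem (H := Cfsg.pCore 2 (K ⧸ Cfsg.oddCore K))
        inferInstance _ (inv_mem ht) (π y))
    have h3 := CfsgLib.LocalEvenB.eq_one_of_mem_two hT2 h2
      ((CfsgLib.LocalEvenB.odd_orderOf_of_mem hY h1).of_dvd_nat (orderOf_map_dvd π _))
    rw [map_mul, map_mul, map_mul, map_inv, map_inv, mul_inv_eq_one, mul_inv_eq_iff_eq_mul] at h3
    exact h3
  have h4 := CfsgLib.LocalEvenB.eq_one_of_mem_two hT2 hyT
    ((CfsgLib.LocalEvenB.odd_orderOf_of_mem hY hy).of_dvd_nat (orderOf_map_dvd π _))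
  exact (QuotientGroup.eq_one_iff y).1 h4

end Solvable

/-! ### The strongly embedded subgroup -/

universe u

variable {G : Type u} [Group G] [Finite G] {p : ℕ} [Fact p.Prime]

/-- The standing hypotheses. -/
structure EvenHyp (p : ℕ) (G : Type u) [Group G] : Prop where
  simple : Cfsg.IsMinimalSimple G
  hyp : Hyp p G
  five : 5 ≤ p
  even : 2 ∣ Nat.card G

variable (H : EvenHyp p G)
include H

theorem EvenHyp.centralizer_proper {x : G} (hx : x ≠ 1) : centralizer ({x} : Set G) ≠ ⊤ :=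
  centralizer_ne_top' H.simple.1 H.simple.2.1 hx

theorem EvenHyp.solvable {X : Subgroup G} (hX : X ≠ ⊤) : Group.IsSolvable X := H.simple.2.2 X hX

theorem EvenHyp.two_ne : 2 ≠ p := by have := H.five; omega

theorem EvenHyp.two_comm {T : Subgroup G} (hT : IsPGroup 2 T) {a b : G} (ha : a ∈ T) (hb : b ∈ T) :
    a * b = b * a :=
  H.hyp.comm (coprime_of_isPGroup Nat.prime_two H.two_ne hT) ha hb

theorem EvenHyp.sylow_comm_of_subgroup (X : Subgroup G) (T : Sylow 2 X) :
    IsMulCommutative (T : Subgroup X) :=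
  ⟨⟨fun a b => Subtype.ext (Subtype.ext
    (H.two_comm (T.2.map X.subtype) (mem_map_of_mem X.subtype a.2) (mem_map_of_mem X.subtype b.2)))⟩⟩

theorem EvenHyp.not_normal {X : Subgroup G} (hb : X ≠ ⊥) (ht : X ≠ ⊤) :
    normalizer (X : Set G) ≠ ⊤ := fun e => by
  haveI : X.Normal := normalizer_eq_top_iff.1 e
  rcases H.simple.1.eq_bot_or_eq_top_of_normal X inferInstance with e' | e'
  exacts [hb e', ht e']

omit [Fact p.Prime] H in
theorem mem_oC_sup {X : Subgroup G} (hX : Group.IsSolvable X) (T : Sylow 2 X)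
    (hT : IsMulCommutative (T : Subgroup X)) {x : G} (hx : x ∈ X) :
    ∃ o ∈ (Cfsg.oddCore ↥X).map X.subtype, ∃ n ∈ X,
      n ∈ normalizer (((T : Subgroup X).map X.subtype : Subgroup G) : Set G) ∧ x = o * n := by
  haveI : (Cfsg.oddCore ↥X).Normal := CfsgLib.Core.normal_pPrimeCore 2 X
  have h : (⟨x, hx⟩ : X) ∈ Cfsg.oddCore ↥X ⊔ normalizer ((T : Subgroup X) : Set X) := by
    rw [oddCore_sup_normalizer hX T hT]; exact mem_top _
  rw [mem_sup_of_normal_left] at h
  obtain ⟨o, ho, n, hn, e⟩ := h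
  exact ⟨o, mem_map_of_mem _ ho, n, n.2, le_normalizer_map X.subtype (mem_map_of_mem _ hn),
    (congrArg Subtype.val e).symm⟩

/-- `A = Ω₁(S)`. -/
structure Omega (S : Sylow 2 G) (A : Subgroup G) : Prop where
  le : A ≤ (S : Subgroup G)
  mem : ∀ x ∈ (S : Subgroup G), x ^ 2 = 1 → x ∈ A
  elem : Cfsg.IsElementaryAbelian 2 A
  card : 2 ^ 3 ≤ Nat.card A

theorem EvenHyp.exists_omega : ∃ (S : Sylow 2 G) (A : Subgroup G), Omega S A := by
  haveI : Fact (Nat.Prime 2) := ⟨Nat.prime_two⟩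
  obtain ⟨S⟩ : Nonempty (Sylow 2 G) := inferInstance
  obtain ⟨E, hES, hEc, hEr, hE3, hmem⟩ :=
    H.hyp.exists_elementary H.five H.simple.1 H.simple.2.1 H.two_ne H.even S
  exact ⟨S, E, hES, hmem, ⟨hEc, hEr⟩, hE3⟩

variable {S : Sylow 2 G} {A : Subgroup G}

theorem EvenHyp.sylow_le_centralizer (hA : Omega S A) {a : G} (ha : a ∈ A) :
    (S : Subgroup G) ≤ centralizer ({a} : Set G) := fun s hs =>
  mem_centralizer_singleton_iff.2 (H.two_comm S.2 hs (hA.le ha))

theorem EvenHyp.comm_A (hA : Omega S A) {a b : G} (ha : a ∈ A) (hb : b ∈ A) : a * b = b * a :=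
  H.two_comm S.2 (hA.le ha) (hA.le hb)

theorem EvenHyp.balance (hA : Omega S A) {a b : G} (ha : a ∈ A) (hb : b ∈ A) (hb1 : b ≠ 1) :
    oC a ⊓ centralizer ({b} : Set G) ≤ oC b := by
  haveI : Fact (Nat.Prime 2) := ⟨Nat.prime_two⟩
  let C := centralizer ({b} : Set G)
  let a' : C := ⟨a, mem_centralizer_singleton_iff.2 (H.comm_A hA ha hb)⟩
  obtain ⟨T, hT⟩ := ((show IsPGroup 2 (zpowers a') from by
    rintro ⟨c, i, rfl⟩
    refine ⟨1, Subtype.ext ?_⟩
    show (a' ^ i) ^ 2 ^ 1 = 1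
    rw [pow_one, ← zpow_natCast, ← zpow_mul, mul_comm, zpow_mul, zpow_natCast,
      show a' ^ 2 = 1 from Subtype.ext (hA.elem.2 a ha), one_zpow])).exists_le_sylow
  have hTc := H.sylow_comm_of_subgroup C T
  intro x hx
  have hYo : Odd (Nat.card ((oC a).subgroupOf C)) := by
    rw [← Subgroup.card_map_of_injective (f := C.subtype) C.subtype_injective, subgroupOf_map_subtype]
    exact (CfsgLib.Classical.TwoType.odd_oC a).of_dvd_nat (card_dvd_of_le inf_le_left)
  have hle := le_oddCore_of_normalized (H.solvable (H.centralizer_proper hb1)) T hTc hYo fun t ht => by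
    have htC : (t : G) ∈ centralizer ({a} : Set G) := mem_centralizer_singleton_iff.2
      (congrArg Subtype.val (show t * a' = a' * t by
        haveI := hTc
        exact congrArg Subtype.val (mul_comm' (⟨t, ht⟩ : (T : Subgroup C)) ⟨a', hT (mem_zpowers a')⟩)))
    rw [mem_normalizer_iff]
    intro y
    exact mem_normalizer_iff.1 (CfsgLib.Classical.TwoType.le_normalizer_oC a htC) (y : G)
  exact ⟨⟨x, hx.2⟩, hle (show (⟨x, hx.2⟩ : C) ∈ (oC a).subgroupOf C from hx.1), rfl⟩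

/-- The maximal subgroup controlling the centralisers of involutions. -/
structure Embedded (S : Sylow 2 G) (A M : Subgroup G) : Prop where
  omega : Omega S A
  max : IsCoatom M
  norm : normalizer ((S : Subgroup G) : Set G) ≤ M
  cent : ∀ a ∈ A, a ≠ 1 → centralizer ({a} : Set G) ≤ M

theorem EvenHyp.exists_embedded : ∃ (S : Sylow 2 G) (A M : Subgroup G), Embedded S A M := by
  haveI : Fact (Nat.Prime 2) := ⟨Nat.prime_two⟩
  obtain ⟨S, A, hA⟩ := H.exists_omega
  refine ⟨S, A, ?_⟩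
  have hfun : Cfsg.IsSolvableSignalizerFunctor 2 A oC := by
    refine ⟨⟨fun a _ _ => CfsgLib.Classical.TwoType.oC_le a, fun a _ _ hd => ?_, fun a ha _ b hb x hx => ?_,
      fun a ha _ b hb hb1 => H.balance hA ha hb hb1⟩, fun a _ ha1 => ?_⟩
    · exact absurd (even_iff_two_dvd.2 hd) (Nat.not_even_iff_odd.2 (CfsgLib.Classical.TwoType.odd_oC a))
    · exact (mem_normalizer_iff.1 (CfsgLib.Classical.TwoType.le_normalizer_oC a
        (mem_centralizer_singleton_iff.2 (H.comm_A hA hb ha))) x).1 hx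
    · exact H.solvable fun e => H.centralizer_proper ha1
        (top_le_iff.1 (e ▸ CfsgLib.Classical.TwoType.oC_le a))
  obtain ⟨W, hW, hθW⟩ := CfsgLib.Signalizer.Solv.done_of_odd hA.elem hA.card hfun
    fun a _ _ => CfsgLib.Classical.TwoType.odd_oC a
  set W₀ := Cfsg.signalizerClosure A oC with hW₀
  have hW₀W : W₀ ≤ W := CfsgLib.Signalizer.closure_le_iff.2 hθW
  have hNW : normalizer ((S : Subgroup G) : Set G) ≤ normalizer (W₀ : Set G) := by
    rw [le_normalizer_iff]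
    intro g hg
    have h : W₀ ≤ W₀.comap (MulAut.conj g).toMonoidHom := CfsgLib.Signalizer.closure_le_iff.2
      fun a ha ha1 x hx => by
        have hga : g * a * g⁻¹ ∈ A := hA.mem _ ((mem_normalizer_iff.1 hg a).1 (hA.le ha))
          (by rw [conj_pow, hA.elem.2 a ha]; group)
        exact CfsgLib.Signalizer.le_closure hga (by simpa using ha1)
          (CfsgLib.Classical.TwoType.map_oC_le g a ⟨x, hx, rfl⟩)
    exact fun x hx => h hx
  have hSb : (S : Subgroup G) ≠ ⊥ := S.ne_bot_of_dvd_card H.even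
  have hSt : (S : Subgroup G) ≠ ⊤ := fun e =>
    H.simple.2.1 ⟨⟨fun a b => H.two_comm S.2 (e ▸ mem_top a) (e ▸ mem_top b)⟩⟩
  have hK : W₀ ⊔ normalizer ((S : Subgroup G) : Set G) ≠ ⊤ := by
    rcases eq_or_ne W₀ ⊥ with e | e
    · rw [e, bot_sup_eq]; exact H.not_normal hSb hSt
    · refine fun et => H.not_normal e (fun e2 => hW.2.1 ?_) (top_le_iff.1 (et ▸ sup_le le_normalizer hNW))
      rw [e2] at hW₀W
      rw [top_le_iff.1 hW₀W, card_top]
      exact H.even
  obtain ⟨M, hM, hKM⟩ := (eq_top_or_exists_le_coatom _).resolve_left hK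
  refine ⟨M, hA, hM, le_sup_right.trans hKM, fun a ha ha1 x hx => ?_⟩
  have hSC := H.sylow_le_centralizer hA ha
  obtain ⟨o, ho, n, hnX, hn, rfl⟩ := mem_oC_sup (H.solvable (H.centralizer_proper ha1))
    (S.subtype hSC) (H.sylow_comm_of_subgroup _ _) hx
  refine hKM (mul_mem (mem_sup_left (CfsgLib.Signalizer.le_closure ha ha1 ho)) (mem_sup_right ?_))
  rwa [Sylow.coe_subtype, map_subgroupOf_eq_of_le hSC] at hn

variable {M : Subgroup G}

theorem EvenHyp.sylow_le (E : Embedded S A M) : (S : Subgroup G) ≤ M :=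
  le_normalizer.trans E.norm

theorem EvenHyp.exists_conj_mem_omega (E : Embedded S A M) {t : G} (ht : t ∈ M)
    (ht2 : orderOf t = 2) : ∃ m ∈ M, m * t * m⁻¹ ∈ A := by
  haveI : Fact (Nat.Prime 2) := ⟨Nat.prime_two⟩
  obtain ⟨R, hR⟩ := (IsPGroup.of_card (p := 2) (G := zpowers (⟨t, ht⟩ : M)) (n := 1)
    (by rw [Nat.card_zpowers, Subgroup.orderOf_mk, ht2, pow_one])).exists_le_sylow
  obtain ⟨m, hm⟩ := MulAction.exists_smul_eq M R (S.subtype (H.sylow_le E))
  refine ⟨m, m.2, E.omega.mem _ ?_ ?_⟩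
  · have h1 : m * ⟨t, ht⟩ * m⁻¹ ∈ ((S.subtype (H.sylow_le E) : Sylow 2 M) : Subgroup M) := by
      rw [← hm, Sylow.coe_subgroup_smul]
      exact ⟨_, hR (mem_zpowers _), rfl⟩
    rw [Sylow.coe_subtype] at h1
    exact h1
  · rw [conj_pow, ← ht2, pow_orderOf_eq_one]; group

omit [Fact p.Prime] H in
theorem Omega.orderOf_eq (hA : Omega S A) {a : G} (ha : a ∈ A) (ha1 : a ≠ 1) : orderOf a = 2 :=
  haveI : Fact (Nat.Prime 2) := ⟨Nat.prime_two⟩
  orderOf_eq_prime (hA.elem.2 a ha) ha1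

omit [Fact p.Prime] H in
theorem ne_one_of_orderOf_two {t : G} (ht : orderOf t = 2) : t ≠ 1 := fun e => by
  rw [e, orderOf_one] at ht; omega

theorem EvenHyp.centralizer_le (E : Embedded S A M) {t : G} (ht : t ∈ M) (ht2 : orderOf t = 2) :
    centralizer ({t} : Set G) ≤ M := by
  obtain ⟨m, hm, ha⟩ := H.exists_conj_mem_omega E ht ht2
  intro x hx
  have h1 : m * x * m⁻¹ ∈ M := E.cent _ ha (by simpa using ne_one_of_orderOf_two ht2)
    (mem_centralizer_singleton_iff.2 (by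
      have := mem_centralizer_singleton_iff.1 hx
      calc m * x * m⁻¹ * (m * t * m⁻¹) = m * (x * t) * m⁻¹ := by group
        _ = m * (t * x) * m⁻¹ := by rw [this]
        _ = _ := by group))
  simpa [mul_assoc] using mul_mem (mul_mem (inv_mem hm) h1) hm

theorem EvenHyp.stronglyEmbedded (E : Embedded S A M) : Cfsg.IsStronglyEmbedded M := by
  haveI : Fact (Nat.Prime 2) := ⟨Nat.prime_two⟩
  refine (CfsgLib.Signalizer.stronglyEmbedded_iff_conj M).2 ⟨E.max.1, even_iff_two_dvd.2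
    ((S.dvd_card_of_dvd_card H.even).trans (card_dvd_of_le (H.sylow_le E))), fun t ht ht2 g hg => ?_⟩
  obtain ⟨m₁, hm₁, ha⟩ := H.exists_conj_mem_omega E ht ht2
  obtain ⟨m₂, hm₂, hb⟩ := H.exists_conj_mem_omega E hg
    (by rw [CfsgLib.Signalizer.orderOf_conj, ht2])
  haveI : IsMulCommutative (S : Subgroup G) := ⟨⟨fun a b => Subtype.ext (H.two_comm S.2 a.2 b.2)⟩⟩
  obtain ⟨n, hn, e⟩ := S.conj_eq_normalizer_conj_of_mem (m₁ * t * m₁⁻¹) (m₁ * g⁻¹ * m₂⁻¹)
    (E.omega.le ha) (by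
      have := E.omega.le hb
      rwa [show (m₁ * g⁻¹ * m₂⁻¹)⁻¹ * (m₁ * t * m₁⁻¹) * (m₁ * g⁻¹ * m₂⁻¹) =
        m₂ * (g * t * g⁻¹) * m₂⁻¹ by group])
  have hc : (n * (m₁ * g⁻¹ * m₂⁻¹)⁻¹) ∈ centralizer ({m₁ * t * m₁⁻¹} : Set G) :=
    mem_centralizer_singleton_iff.2 (by
      calc n * (m₁ * g⁻¹ * m₂⁻¹)⁻¹ * (m₁ * t * m₁⁻¹)
          = n * ((m₁ * g⁻¹ * m₂⁻¹)⁻¹ * (m₁ * t * m₁⁻¹) * (m₁ * g⁻¹ * m₂⁻¹)) *
              (m₁ * g⁻¹ * m₂⁻¹)⁻¹ := by group
        _ = n * (n⁻¹ * (m₁ * t * m₁⁻¹) * n) * (m₁ * g⁻¹ * m₂⁻¹)⁻¹ := by rw [e]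
        _ = _ := by group)
  have h1 := E.cent _ ha (by simpa using ne_one_of_orderOf_two ht2) hc
  have h2 := mul_mem (mul_mem (mul_mem (inv_mem hm₂) (inv_mem (E.norm hn))) h1) hm₁
  simpa [mul_assoc] using h2

theorem EvenHyp.one_class (E : Embedded S A M) {t u : G} (ht : orderOf t = 2) (hu : orderOf u = 2) :
    ∃ g : G, g * t * g⁻¹ = u :=
  isConj_iff.1 (CfsgLib.TwoGroups.SE.isConj_involutions (H.stronglyEmbedded E) ht hu)

theorem EvenHyp.exists_mem_conj (E : Embedded S A M) {t u : G} (htM : t ∈ M) (huM : u ∈ M)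
    (ht : orderOf t = 2) (hu : orderOf u = 2) : ∃ m ∈ M, m * t * m⁻¹ = u := by
  obtain ⟨g, hg⟩ := H.one_class E ht hu
  exact ⟨g, ((CfsgLib.Signalizer.stronglyEmbedded_iff_conj M).1 (H.stronglyEmbedded E)).2.2 t htM ht g
    (hg ▸ huM), hg⟩

/-- A proper subgroup containing an elementary group of order at least `4` of `M` lies in `M`. -/
theorem EvenHyp.le_of_four (E : Embedded S A M) {V X : Subgroup G}
    (hV : Cfsg.IsElementaryAbelian 2 V) (hV4 : 4 ≤ Nat.card V) (hVM : V ≤ M) (hVX : V ≤ X)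
    (hX : X ≠ ⊤) : X ≤ M := by
  haveI : Fact (Nat.Prime 2) := ⟨Nat.prime_two⟩
  haveI := hV.1
  have hord : ∀ v ∈ V, v ≠ 1 → orderOf v = 2 := fun v hv hv1 => orderOf_eq_prime (hV.2 v hv) hv1
  obtain ⟨T, hT⟩ := ((CfsgLib.Signalizer.elementary_isPGroup hV).comap_subtype
    (K := X)).exists_le_sylow
  obtain ⟨v, hv, hv1⟩ : ∃ v ∈ V, v ≠ 1 := by
    by_contra hno
    push Not at hno
    have : Nat.card V = 1 := card_eq_one.2 ((eq_bot_iff_forall _).2 hno)
    omega
  have hvT : v ∈ (T : Subgroup X).map X.subtype := ⟨⟨v, hVX hv⟩, hT hv, rfl⟩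
  have hTM : (T : Subgroup X).map X.subtype ≤ M := fun a ha =>
    H.centralizer_le E (hVM hv) (hord v hv hv1)
      (mem_centralizer_singleton_iff.2 (H.two_comm (T.2.map X.subtype) ha hvT))
  have hO : (Cfsg.oddCore ↥X).map X.subtype ≤ M := by
    refine CfsgLib.LocalEven.le_of_centralizers_le (p := 2) hV.2 (by simpa using hV4) ?_ ?_
      fun a ha ha1 => inf_le_right.trans (H.centralizer_le E (hVM ha) (hord a ha ha1))
    · haveI : (Cfsg.oddCore ↥X).Normal := CfsgLib.Core.normal_pPrimeCore 2 X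
      have h := le_normalizer_map (H := Cfsg.oddCore ↥X) X.subtype
      rw [normalizer_eq_top, ← MonoidHom.range_eq_map, range_subtype] at h
      exact hVX.trans h
    · rw [card_map_of_injective X.subtype_injective, ← even_iff_two_dvd, Nat.not_even_iff_odd]
      exact CfsgLib.ZStar.odd_card_oddCore _
  intro x hx
  obtain ⟨o, ho, n, hnX, hn, rfl⟩ := mem_oC_sup (H.solvable hX) T (H.sylow_comm_of_subgroup X T) hx
  refine mul_mem (hO ho) (((CfsgLib.Signalizer.stronglyEmbedded_iff_conj M).1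
    (H.stronglyEmbedded E)).2.2 v (hVM hv) (hord v hv hv1) n (hTM ?_))
  exact (mem_normalizer_iff.1 hn v).1 hvT

/-- `p` divides the order of `M`. -/
theorem EvenHyp.dvd_card (E : Embedded S A M) : p ∣ Nat.card M := by
  haveI : Fact (Nat.Prime 2) := ⟨Nat.prime_two⟩
  obtain ⟨g, hg, s, hs, hne⟩ := exists_normalizer_not_centralizer H.simple.1 H.simple.2.1 S
    (S.ne_bot_of_dvd_card H.even)
  refine dvd_trans ?_ (Subgroup.orderOf_dvd_natCard _ (E.norm hg))
  by_contra hd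
  exact hne (by
    rw [H.hyp.comm_of_normalizes (coprime_of_isPGroup Nat.prime_two H.two_ne S.2)
      (((Fact.out : p.Prime).coprime_iff_not_dvd).2 hd).symm hg hs, mul_inv_cancel_right])

end CfsgLib.Techniques.PPrimeAbelian
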