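import Mathlib
import Cfsg.Agent.Lib.Core.Basic
import Cfsg.Agent.Lib.Core.Hall
import Cfsg.Agent.Lib.Signalizer.Involutions

/-!
Owner: helper11. Groups all of whose subgroups of order prime to `p` are abelian of exponent
dividing `p - 1`: elementary facts.
-/

set_option autoImplicit false
set_option linter.all false

namespace CfsgLib.Techniques.PPrimeAbelian

open Subgroup

variable {G : Type*} [Group G] {p : ℕ}

/-- Every subgroup of order prime to `p` is abelian of exponent dividing `p - 1`. -/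
def Hyp (p : ℕ) (G : Type*) [Group G] : Prop :=
  ∀ H : Subgroup G, (Nat.card ↥H).Coprime p → IsMulCommutative ↥H ∧ ∀ x ∈ H, x ^ (p - 1) = 1

theorem Hyp.comm (h : Hyp p G) {H : Subgroup G} (hH : (Nat.card H).Coprime p) {x y : G}
    (hx : x ∈ H) (hy : y ∈ H) : x * y = y * x := by
  haveI := (h H hH).1
  exact congrArg Subtype.val (mul_comm' (⟨x, hx⟩ : H) ⟨y, hy⟩)

theorem Hyp.subgroup (h : Hyp p G) (L : Subgroup G) : Hyp p ↥L := by
  intro H hH
  have hc : (Nat.card (H.map L.subtype)).Coprime p := by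
    rwa [card_map_of_injective L.subtype_injective]
  refine ⟨⟨⟨fun a b => ?_⟩⟩, fun x hx => ?_⟩
  · exact Subtype.ext (Subtype.ext (h.comm hc (mem_map_of_mem L.subtype a.2)
      (mem_map_of_mem L.subtype b.2)))
  · exact Subtype.ext ((h _ hc).2 _ (mem_map_of_mem L.subtype hx))

theorem Hyp.image {Q : Type*} [Group Q] (h : Hyp p G) (f : G →* Q)
    (hf : ∀ X : Subgroup Q, (Nat.card X).Coprime p →
      ∃ K : Subgroup G, (Nat.card K).Coprime p ∧ X ≤ K.map f) : Hyp p Q := by
  intro X hX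
  obtain ⟨K, hK, hXK⟩ := hf X hX
  refine ⟨⟨⟨fun a b => ?_⟩⟩, fun x hx => ?_⟩
  · obtain ⟨u, hu, hua⟩ := hXK a.2
    obtain ⟨v, hv, hvb⟩ := hXK b.2
    refine Subtype.ext ?_
    rw [Subgroup.coe_mul, Subgroup.coe_mul, ← hua, ← hvb, ← map_mul, ← map_mul, h.comm hK hu hv]
  · obtain ⟨u, hu, rfl⟩ := hXK hx
    rw [← map_pow, (h K hK).2 u hu, map_one]

theorem Hyp.quotient_coprime [Finite G] (h : Hyp p G) (N : Subgroup G) [N.Normal]
    (hN : (Nat.card N).Coprime p) : Hyp p (G ⧸ N) := by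
  refine h.image (QuotientGroup.mk' N) fun X hX => ⟨X.comap (QuotientGroup.mk' N), ?_, ?_⟩
  · rw [CfsgLib.Core.card_comap_mk']
    exact Nat.Coprime.mul_left hN hX
  · rw [map_comap_eq_self_of_surjective (QuotientGroup.mk'_surjective N)]

theorem Hyp.quotient_pGroup [Finite G] [Fact p.Prime] (h : Hyp p G) (N : Subgroup G) [N.Normal]
    (hN : IsPGroup p N) : Hyp p (G ⧸ N) := by
  refine h.image (QuotientGroup.mk' N) fun X hX => ?_
  set Y := X.comap (QuotientGroup.mk' N) with hY
  have hNY : N ≤ Y := QuotientGroup.le_comap_mk' N X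
  have hcY : Nat.card Y = Nat.card N * Nat.card X := CfsgLib.Core.card_comap_mk' N X
  have hcN : Nat.card (N.subgroupOf Y) = Nat.card N :=
    Nat.card_congr (subgroupOfEquivOfLe hNY).toEquiv
  have hidx : (N.subgroupOf Y).index = Nat.card X := by
    apply Nat.eq_of_mul_eq_mul_left (Nat.card_pos (α := N))
    rw [← hcY, ← hcN, card_mul_index]
  obtain ⟨n, hn⟩ := IsPGroup.iff_card.mp hN
  obtain ⟨B, hB⟩ := exists_right_complement'_of_coprime (N := N.subgroupOf Y)
    (by rw [hidx, hcN, hn]; exact (hX.symm.pow_left n))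
  refine ⟨B.map Y.subtype, ?_, ?_⟩
  · rw [card_map_of_injective Y.subtype_injective, ← hB.symm.index_eq_card, hidx]
    exact hX
  · intro x hx
    obtain ⟨g, rfl⟩ := QuotientGroup.mk'_surjective N x
    obtain ⟨⟨⟨u, hu⟩, ⟨b, hb⟩⟩, hub⟩ := hB.surjective (⟨g, hx⟩ : Y)
    refine ⟨b, mem_map_of_mem Y.subtype hb, ?_⟩
    have hgv : g = (u : G) * (b : G) := (congrArg Subtype.val hub).symm
    rw [hgv, map_mul, (QuotientGroup.eq_one_iff (u : G)).2 hu |> fun e => (show
      QuotientGroup.mk' N (u : G) = 1 from e), one_mul]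

/-- Some `p`-power of an element has order prime to `p`. -/
theorem exists_pow_coprime [Finite G] [Fact p.Prime] (x : G) :
    ∃ j : ℕ, (orderOf (x ^ p ^ j)).Coprime p := by
  have hp : p.Prime := Fact.out
  refine ⟨(orderOf x).factorization p, ?_⟩
  rw [orderOf_pow_of_dvd (pow_ne_zero _ hp.ne_zero) (Nat.ordProj_dvd (orderOf x) p), Nat.coprime_comm,
    hp.coprime_iff_not_dvd]
  exact Nat.not_dvd_ordCompl hp (orderOf_pos x).ne'

/-- Prime divisors other than `p` divide `p - 1`. -/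
theorem Hyp.dvd_pred [Finite G] [Fact p.Prime] (h : Hyp p G) {r : ℕ} (hr : r.Prime) (hrp : r ≠ p)
    (hd : r ∣ Nat.card G) : r ∣ p - 1 := by
  have := Fact.mk hr
  obtain ⟨x, hx⟩ := exists_prime_orderOf_dvd_card' (G := G) r hd
  have hc : (Nat.card (zpowers x)).Coprime p := by
    rw [Nat.card_zpowers, hx]
    exact (Nat.coprime_primes hr Fact.out).2 hrp
  exact hx ▸ orderOf_dvd_of_pow_eq_one ((h _ hc).2 x (mem_zpowers x))

theorem coprime_of_isPGroup [Finite G] [Fact p.Prime] {r : ℕ} (hr : r.Prime) (hrp : r ≠ p)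
    {R : Subgroup G} (hR : IsPGroup r R) : (Nat.card R).Coprime p := by
  have := Fact.mk hr
  obtain ⟨n, hn⟩ := IsPGroup.iff_card.mp hR
  rw [hn]
  exact Nat.Coprime.pow_left n ((Nat.coprime_primes hr Fact.out).2 hrp)

theorem Hyp.comm_pGroup [Finite G] [Fact p.Prime] (h : Hyp p G) {r : ℕ} (hr : r.Prime)
    (hrp : r ≠ p) {R : Subgroup G} (hR : IsPGroup r R) : IsMulCommutative R :=
  (h R (coprime_of_isPGroup hr hrp hR)).1

/-- An element of order prime to `p` normalising a `p'`-subgroup centralises it. -/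
theorem Hyp.comm_of_normalizes [Finite G] (h : Hyp p G) {K : Subgroup G}
    (hK : (Nat.card K).Coprime p) {x : G} (hx : (orderOf x).Coprime p)
    (hn : x ∈ normalizer (K : Set G)) {k : G} (hk : k ∈ K) : x * k = k * x := by
  have hle : zpowers x ≤ normalizer (K : Set G) := zpowers_le.2 hn
  have hc : (Nat.card (zpowers x ⊔ K : Subgroup G)).Coprime p :=
    Nat.Coprime.coprime_dvd_left (CfsgLib.Core.card_sup_dvd _ _ hle)
      (Nat.Coprime.mul_left (by rwa [Nat.card_zpowers]) hK)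
  exact h.comm hc (mem_sup_left (mem_zpowers x)) (mem_sup_right hk)

theorem inverts_pow {w h : G} (hw : w * h * w⁻¹ = h⁻¹) (n : ℕ) :
    w * h ^ n * w⁻¹ = (h ^ n)⁻¹ := by
  rw [← conj_pow, hw, inv_pow]

/-- An element of odd order inverted by an involution is a `p`-element. -/
theorem Hyp.inverted_isPPower [Finite G] [Fact p.Prime] (h : Hyp p G) (hp2 : p ≠ 2) {w x : G}
    (hw : orderOf w = 2) (hwx : w * x * w⁻¹ = x⁻¹) (hx : Odd (orderOf x)) :
    ∃ j : ℕ, x ^ p ^ j = 1 := by
  obtain ⟨j, hj⟩ := exists_pow_coprime (p := p) x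
  refine ⟨j, ?_⟩
  set y := x ^ p ^ j with hy
  have hwy : w * y * w⁻¹ = y⁻¹ := inverts_pow hwx _
  have hn : w ∈ normalizer ((zpowers y : Subgroup G) : Set G) := by
    rw [mem_normalizer_iff_map_conj_eq, MonoidHom.map_zpowers]
    show zpowers (w * y * w⁻¹) = zpowers y
    rw [hwy, zpowers_inv]
  have hc : y * w = w * y := (h.comm_of_normalizes (K := zpowers y) (by rwa [Nat.card_zpowers])
    (by rw [hw]; exact (Nat.coprime_primes Nat.prime_two Fact.out).2 (Ne.symm hp2)) hn
    (mem_zpowers y)).symm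
  rw [← hc, mul_inv_cancel_right, eq_inv_iff_mul_eq_one, ← sq] at hwy
  have h2 : orderOf y ∣ 2 := orderOf_dvd_of_pow_eq_one hwy
  have hodd : Odd (orderOf y) := hx.of_dvd_nat (orderOf_pow_dvd _)
  rcases (Nat.dvd_prime Nat.prime_two).1 h2 with e | e
  · exact orderOf_eq_one_iff.1 e
  · rw [e] at hodd; exact absurd hodd (by decide)

/-- A finite group of automorphisms by a power of `n` prime to `r` fixing `Ω₁` fixes an abelian
`r`-group. -/
theorem commute_of_omega {R : Subgroup G} [IsMulCommutative R] {r n : ℕ} (hrn : r.Coprime n)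
    {g : G} (hg : g ∈ normalizer (R : Set G)) (hgn : g ^ n = 1)
    (hfix : ∀ x ∈ R, x ^ r = 1 → g * x * g⁻¹ = x) :
    ∀ (i : ℕ) (x : G), x ∈ R → x ^ r ^ i = 1 → g * x * g⁻¹ = x := by
  intro i
  induction i with
  | zero => intro x _ h1; rw [pow_zero, pow_one] at h1; subst h1; simp
  | succ i ih =>
    intro x hx hxi
    set c := x⁻¹ * (g * x * g⁻¹) with hc
    have hgx : g * x * g⁻¹ ∈ R := (mem_normalizer_iff.1 hg x).1 hx
    have hcR : c ∈ R := mul_mem (inv_mem hx) hgx
    have hcomm : ∀ a ∈ R, ∀ b ∈ R, Commute a b := fun a ha b hb =>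
      congrArg Subtype.val (mul_comm' (⟨a, ha⟩ : R) ⟨b, hb⟩)
    have hcr : c ^ r = 1 := by
      rw [hc, (hcomm _ (inv_mem hx) _ hgx).mul_pow, conj_pow, inv_pow,
        ih (x ^ r) (pow_mem hx r) (by rw [← pow_mul, ← pow_succ', hxi]), inv_mul_cancel]
    have hgc : g * c * g⁻¹ = c := hfix c hcR hcr
    have hpow : ∀ k : ℕ, g ^ k * x * (g ^ k)⁻¹ = x * c ^ k := by
      intro k
      induction k with
      | zero => simp
      | succ k ihk =>
        calc g ^ (k + 1) * x * (g ^ (k + 1))⁻¹ = g * (g ^ k * x * (g ^ k)⁻¹) * g⁻¹ := by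
              rw [pow_succ']; group
          _ = (g * x * g⁻¹) * (g * c * g⁻¹) ^ k := by rw [ihk, conj_pow]; group
          _ = x * c ^ (k + 1) := by
              rw [hgc, pow_succ', ← mul_assoc x c, show x * c = g * x * g⁻¹ by
                rw [hc, mul_inv_cancel_left]]
    have hcn : c ^ n = 1 := by
      have := hpow n
      rw [hgn, one_mul, inv_one, mul_one] at this
      exact mul_eq_left.1 this.symm
    have hc1 : c = 1 := by
      rw [← orderOf_eq_one_iff]
      exact Nat.eq_one_of_dvd_coprimes hrn (orderOf_dvd_of_pow_eq_one hcr)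
        (orderOf_dvd_of_pow_eq_one hcn)
    rw [hc, inv_mul_eq_one] at hc1
    exact hc1.symm

theorem no_small_power {p r e : ℕ} (hp : p.Prime) (hr : r.Prime) (hrp : r + 1 < p) (he1 : 1 ≤ e)
    (he2 : e ≤ 2) : ¬ p ∣ r ^ e - 1 := by
  intro hd
  have h2 := hr.two_le
  interval_cases e
  · rw [pow_one] at hd
    have := Nat.le_of_dvd (by omega) hd
    omega
  · rw [show r ^ 2 - 1 = (r + 1) * (r - 1) from by
      have := Nat.sq_sub_sq r 1; simpa using this] at hd
    rcases hp.dvd_mul.1 hd with h | h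
    · have := Nat.le_of_dvd (by omega) h
      omega
    · have := Nat.le_of_dvd (by omega) h
      omega

/-- An elementary abelian `r`-group moved by a `p`-element, `r + 1 < p`, has order at least `r ^ 3`. -/
theorem card_ge_of_moved [Finite G] [Fact p.Prime] {r : ℕ} [hr : Fact r.Prime] (hrp : r + 1 < p)
    {E : Subgroup G} (hE : IsPGroup r E) {g : G} (hg : g ∈ normalizer (E : Set G)) {j : ℕ}
    (hgj : g ^ p ^ j = 1) (hmove : ¬ ∀ x ∈ E, g * x * g⁻¹ = x) : r ^ 3 ≤ Nat.card E := by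
  obtain ⟨i, hi⟩ := IsPGroup.iff_card.mp hE
  obtain ⟨k, -, hk⟩ := (Nat.dvd_prime_pow Fact.out).1 (orderOf_dvd_of_pow_eq_one hgj)
  have hgp : IsPGroup p (zpowers g) := IsPGroup.of_card (n := k) (by rw [Nat.card_zpowers, hk])
  have hgN : zpowers g ≤ normalizer (E : Set G) := zpowers_le.2 hg
  letI : MulAction (zpowers g) E := MulAction.compHom E
    ((normalizerMonoidHom E).comp (inclusion hgN))
  have hsmul : ∀ (a : zpowers g) (e : E), ((a • e : E) : G) = (a : G) * e * (a : G)⁻¹ :=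
    fun a e => rfl
  let F : Subgroup G := E ⊓ centralizer ({g} : Set G)
  have hFcard : Nat.card (MulAction.fixedPoints (zpowers g) E) = Nat.card F := by
    refine Nat.card_congr
      { toFun := fun e => ⟨((e : E) : G), (e : E).2, ?_⟩
        invFun := fun f => ⟨⟨f, f.2.1⟩, ?_⟩
        left_inv := fun e => rfl
        right_inv := fun f => rfl }
    · have := congrArg Subtype.val (e.2 ⟨g, mem_zpowers g⟩)
      rw [hsmul] at this
      exact mem_centralizer_singleton_iff.2 (mul_inv_eq_iff_eq_mul.1 this).symm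
    · intro a
      refine Subtype.ext ?_
      rw [hsmul]
      obtain ⟨k, hk⟩ := mem_zpowers_iff.1 a.2
      rw [← hk]
      show g ^ k * (f : G) * (g ^ k)⁻¹ = f
      rw [mul_inv_eq_iff_eq_mul]
      exact ((show Commute (f : G) g from mem_centralizer_singleton_iff.1 f.2.2).zpow_right k).eq.symm
  have hmod := hgp.card_modEq_card_fixedPoints E
  rw [hFcard] at hmod
  have hFE : F ≤ E := inf_le_left
  obtain ⟨l, hl⟩ := IsPGroup.iff_card.mp (hE.to_le hFE)
  have hlt : Nat.card F < Nat.card E := by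
    refine Set.Finite.card_lt_card (Set.toFinite _) (SetLike.coe_ssubset_coe.2 (lt_of_le_of_ne hFE ?_))
    intro e
    refine hmove fun x hx => ?_
    rw [← e] at hx
    rw [mul_inv_eq_iff_eq_mul]
    exact (mem_centralizer_singleton_iff.1 hx.2).symm
  rw [hi, hl] at hlt hmod
  rw [hi]
  have hli : l < i := (Nat.pow_lt_pow_iff_right hr.out.one_lt).1 hlt
  refine Nat.pow_le_pow_right hr.out.pos ?_
  by_contra hi3
  have hd : p ∣ r ^ i - r ^ l := (Nat.modEq_iff_dvd' hlt.le).1 hmod.symm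
  rw [show r ^ i = r ^ l * r ^ (i - l) by rw [← pow_add]; congr 1; omega,
    ← Nat.mul_sub_one] at hd
  have hpp : p.Prime := Fact.out
  rcases hpp.dvd_mul.1 hd with h | h
  · have := (Nat.prime_dvd_prime_iff_eq hpp hr.out).1 (hpp.dvd_of_dvd_pow h)
    omega
  · exact no_small_power hpp hr.out hrp (by omega) (by omega) h

/-- In a simple non-abelian group every nontrivial Sylow subgroup has a non-central automizer. -/
theorem exists_normalizer_not_centralizer [Finite G] (hs : IsSimpleGroup G)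
    (hc : ¬ IsMulCommutative G) {r : ℕ} [Fact r.Prime] (R : Sylow r G)
    (hR : (R : Subgroup G) ≠ ⊥) :
    ∃ g ∈ normalizer ((R : Subgroup G) : Set G), ∃ x ∈ (R : Subgroup G), g * x * g⁻¹ ≠ x := by
  by_contra hno
  push Not at hno
  have hle : normalizer ((R : Subgroup G) : Set G) ≤ centralizer ((R : Subgroup G) : Set G) :=
    fun g hg => mem_centralizer_iff.2 fun x hx => (mul_inv_eq_iff_eq_mul.1 (hno g hg x hx)).symm
  have hk := MonoidHom.ker_transferSylow_isComplement' R hle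
  rcases IsSimpleGroup.eq_bot_or_eq_top_of_normal _
      (MonoidHom.normal_ker (MonoidHom.transferSylow R hle)) with h | h
  · rw [h, isComplement'_bot_left] at hk
    refine hc ⟨⟨fun a b => ?_⟩⟩
    exact (mem_centralizer_iff.1 (hle (le_normalizer (hk ▸ mem_top b))) a (hk ▸ mem_top a))
  · rw [h, isComplement'_top_left] at hk
    exact hR hk

/-- For `p ≥ 5`, in a simple non-abelian group each Sylow `r`-subgroup, `r ≠ p`, contains an
elementary abelian subgroup of order `r ^ 3`. -/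
theorem Hyp.exists_elementary [Finite G] [Fact p.Prime] (h : Hyp p G) (hp5 : 5 ≤ p)
    (hs : IsSimpleGroup G) (hc : ¬ IsMulCommutative G) {r : ℕ} [hr : Fact r.Prime] (hrp : r ≠ p)
    (hrd : r ∣ Nat.card G) (R : Sylow r G) :
    ∃ E : Subgroup G, E ≤ (R : Subgroup G) ∧ IsMulCommutative E ∧ (∀ x ∈ E, x ^ r = 1) ∧
      r ^ 3 ≤ Nat.card E ∧ (∀ x ∈ (R : Subgroup G), x ^ r = 1 → x ∈ E) := by
  haveI hRc : IsMulCommutative (R : Subgroup G) := h.comm_pGroup hr.out hrp R.2
  have hcomm : ∀ a ∈ (R : Subgroup G), ∀ b ∈ (R : Subgroup G), Commute a b := fun a ha b hb =>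
    congrArg Subtype.val (mul_comm' (⟨a, ha⟩ : (R : Subgroup G)) ⟨b, hb⟩)
  have hdp : r ∣ p - 1 := h.dvd_pred hr.out hrp hrd
  have hr1 : r + 1 < p := by
    have h1 := Nat.le_of_dvd (by omega) hdp
    by_contra hlt
    have he : r = p - 1 := by omega
    have hodd : Odd p := (Fact.out : p.Prime).odd_of_ne_two (by omega)
    have : r = 2 := hr.out.eq_two_or_odd'.resolve_right (by
      rw [he, Nat.not_odd_iff_even]
      exact Nat.Odd.sub_odd hodd odd_one)
    omega
  let E : Subgroup G :=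
    { carrier := {x | x ∈ (R : Subgroup G) ∧ x ^ r = 1}
      one_mem' := ⟨one_mem _, one_pow r⟩
      mul_mem' := fun {a b} ha hb => ⟨mul_mem ha.1 hb.1,
        by rw [(hcomm a ha.1 b hb.1).mul_pow, ha.2, hb.2, one_mul]⟩
      inv_mem' := fun {a} ha => ⟨inv_mem ha.1, by rw [inv_pow, ha.2, inv_one]⟩ }
  have hER : E ≤ (R : Subgroup G) := fun x hx => hx.1
  refine ⟨E, hER, ⟨⟨fun a b => Subtype.ext (hcomm _ a.2.1 _ b.2.1).eq⟩⟩, fun x hx => hx.2, ?_,
    fun x hx hxr => ⟨hx, hxr⟩⟩
  obtain ⟨g, hg, x, hx, hgx⟩ := exists_normalizer_not_centralizer hs hc R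
    (R.ne_bot_of_dvd_card hrd)
  obtain ⟨j, hj⟩ := exists_pow_coprime (p := p) g
  have hgj : g ^ p ^ j ∈ centralizer ((R : Subgroup G) : Set G) := mem_centralizer_iff.2 fun k hk =>
    (h.comm_of_normalizes (coprime_of_isPGroup hr.out hrp R.2) hj (pow_mem hg _) hk).symm
  -- replace `g` by its `p`-part
  obtain ⟨m, hm⟩ : ∃ m, m = orderOf (g ^ p ^ j) := ⟨_, rfl⟩
  have hmp : m.Coprime p := hm ▸ hj
  obtain ⟨k, -, hk⟩ := Nat.exists_mul_mod_eq_one_of_coprime (hmp.pow_right (j + 1))
    (Nat.one_lt_pow (by omega) (Fact.out : p.Prime).one_lt)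
  set g₁ := g ^ (m * k) with hg₁
  have hg₁j : g₁ ^ p ^ j = 1 := by
    rw [hg₁, ← pow_mul, show m * k * p ^ j = p ^ j * (m * k) by ring, pow_mul, pow_mul, hm,
      pow_orderOf_eq_one, one_pow]
  have hmove : ¬ ∀ y ∈ (R : Subgroup G), g₁ * y * g₁⁻¹ = y := by
    intro hall
    apply hgx
    have h1 : g₁ ∈ centralizer ((R : Subgroup G) : Set G) :=
      mem_centralizer_iff.2 fun y hy => (mul_inv_eq_iff_eq_mul.1 (hall y hy)).symm
    have h2 : g ∈ centralizer ((R : Subgroup G) : Set G) := by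
      obtain ⟨q, e⟩ : ∃ q, m * k = 1 + p ^ j * (p * q) := ⟨m * k / p ^ (j + 1), by
        conv_lhs => rw [← Nat.mod_add_div (m * k) (p ^ (j + 1)), hk]
        rw [pow_succ]; ring⟩
      have h3 : g₁ = g * (g ^ p ^ j) ^ (p * q) := by
        rw [hg₁, e, pow_add, pow_one, pow_mul]
      have h4 := mul_mem h1 (inv_mem (pow_mem hgj (p * q)))
      rwa [h3, mul_inv_cancel_right] at h4
    rw [mul_inv_eq_iff_eq_mul]
    exact (mem_centralizer_iff.1 h2 x hx).symm
  have hg₁N : g₁ ∈ normalizer ((R : Subgroup G) : Set G) := pow_mem hg _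
  refine card_ge_of_moved hr1 (R.2.to_le hER) ?_ hg₁j ?_
  · rw [mem_normalizer_iff]
    intro y
    refine ⟨fun hy => ⟨(mem_normalizer_iff.1 hg₁N y).1 hy.1, by rw [conj_pow, hy.2]; group⟩,
      fun hy => ⟨(mem_normalizer_iff.1 hg₁N y).2 hy.1, ?_⟩⟩
    have := hy.2
    rw [conj_pow, mul_inv_eq_one, mul_eq_left] at this
    exact this
  · intro hfix
    refine hmove fun y hy => ?_
    obtain ⟨i, hi⟩ := R.2 ⟨y, hy⟩
    exact commute_of_omega (R := (R : Subgroup G)) (r := r) (n := p ^ j)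
      (((Nat.coprime_primes hr.out Fact.out).2 hrp).pow_right j) hg₁N hg₁j
      (fun z hz hzr => hfix z ⟨hz, hzr⟩) i y hy (congrArg Subtype.val hi)

/-- In a non-abelian simple group centralisers of nontrivial elements are proper. -/
theorem centralizer_ne_top' (hs : IsSimpleGroup G) (hc : ¬ IsMulCommutative G) {x : G}
    (hx : x ≠ 1) : centralizer ({x} : Set G) ≠ ⊤ := by
  intro h
  have hxc : x ∈ center G := mem_center_iff.2 fun g =>
    mem_centralizer_singleton_iff.1 (h ▸ mem_top g)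
  rcases IsSimpleGroup.eq_bot_or_eq_top_of_normal (center G) inferInstance with e | e
  · rw [e, mem_bot] at hxc; exact hx hxc
  · exact hc ⟨⟨fun a b => (mem_center_iff.1 (e ▸ mem_top b) a)⟩⟩

/-- In a proper subgroup containing a Sylow `r`-subgroup of `G`, an element of order prime to `p`
commutes with some Sylow `r`-subgroup of `G` lying there. -/
theorem exists_full_sylow_commuting [Finite G] [Fact p.Prime] (h : Hyp p G) {X : Subgroup G}
    (hX : Group.IsSolvable X) {r : ℕ} [hr : Fact r.Prime] (hrp : r ≠ p) (S : Sylow r G)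
    (hS : (S : Subgroup G) ≤ X) {x : G} (hx : x ∈ X) (hxp : (orderOf x).Coprime p) :
    ∃ R : Sylow r G, (R : Subgroup G) ≤ X ∧ ∀ y ∈ (R : Subgroup G), x * y = y * x := by
  haveI := hX
  obtain ⟨A, hA, hxA⟩ := CfsgLib.Core.exists_piHall_ge (G := X) (π := {l | l ≠ p})
    (K := zpowers (⟨x, hx⟩ : X)) (fun l hl hd e => by
      rw [Nat.card_zpowers, Subgroup.orderOf_mk, e] at hd
      exact (Fact.out : p.Prime).ne_one (Nat.eq_one_of_dvd_coprimes hxp hd dvd_rfl))
  have hAp : (Nat.card A).Coprime p :=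
    (((Fact.out : p.Prime).coprime_iff_not_dvd).2 fun hd => hA.1 p Fact.out hd rfl).symm
  have hAp' : (Nat.card (A.map X.subtype)).Coprime p := by
    rwa [card_map_of_injective X.subtype_injective]
  obtain ⟨n, hn⟩ := IsPGroup.iff_card.mp S.2
  have hd : r ^ n ∣ Nat.card A := by
    refine (Nat.Coprime.pow_left n (hr.out.coprime_iff_not_dvd.2 (hA.2 r hr.out hrp))).dvd_of_dvd_mul_right ?_
    rw [A.card_mul_index, ← hn]
    exact card_dvd_of_le hS
  obtain ⟨Q, hQ⟩ := Sylow.exists_subgroup_card_pow_prime (G := A) r hd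
  set Q' := (Q.map A.subtype).map X.subtype with hQ'
  have hQc : Nat.card Q' = r ^ n := by
    rw [hQ', card_map_of_injective X.subtype_injective, card_map_of_injective A.subtype_injective, hQ]
  have hQA : Q' ≤ A.map X.subtype := map_mono (map_subtype_le Q)
  refine ⟨Sylow.ofCard Q' (by rw [hQc, ← hn, S.card_eq_multiplicity]),
    hQA.trans (map_subtype_le A), fun y hy => h.comm hAp' ?_ (hQA hy)⟩
  exact ⟨⟨x, hx⟩, hxA (mem_zpowers _), rfl⟩

end CfsgLib.Techniques.PPrimeAbelian
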