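import Cfsg.Agent.Lib.Techniques.PPrimeAbelian.EvenTransfer

/-!
Owner: helper11. With `A` normal in `M` the centralisers of the real elements are abelian Sylow
`p`-subgroups, and counting pairs of involutions gives a contradiction.
-/

set_option autoImplicit false
set_option linter.all false
set_option maxHeartbeats 800000

namespace CfsgLib.Techniques.PPrimeAbelian

open Subgroup

universe u

theorem eq_one_of_two_pow_sub_one {n p i : ℕ} (hp : p.Prime) (hp5 : 5 ≤ p) (hn : 2 ≤ n)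
    (h : 2 ^ n - 1 = p ^ i) (hi : 1 ≤ i) : i = 1 := by
  have h1 : 2 ^ n = p ^ i + 1 := by have := Nat.one_le_two_pow (n := n); omega
  rcases Nat.even_or_odd i with ⟨k, rfl⟩ | ⟨k, rfl⟩
  · exfalso
    obtain ⟨b, hb⟩ : ∃ b, p ^ k = 2 * b + 1 :=
      (hp.odd_of_ne_two (by omega)).pow
    have h4 : (4 : ℕ) ∣ 2 ^ n := (by norm_num : (4 : ℕ) = 2 ^ 2) ▸ pow_dvd_pow 2 hn
    rw [h1, pow_add, hb] at h4
    have e : (2 * b + 1) * (2 * b + 1) + 1 = 4 * (b * b + b) + 2 := by ring
    omega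
  · suffices k = 0 by omega
    have hodd : ∀ m : ℕ, ∃ q : ℤ, Odd q ∧ (p : ℤ) ^ (2 * m + 1) + 1 = ((p : ℤ) + 1) * q := by
      intro m
      induction m with
      | zero => exact ⟨1, odd_one, by ring⟩
      | succ m ih =>
        obtain ⟨q, hq, e⟩ := ih
        refine ⟨(p : ℤ) ^ 2 * q - ((p : ℤ) - 1), ?_, by linear_combination (p : ℤ) ^ 2 * e⟩
        have hpo : Odd (p : ℤ) := by exact_mod_cast hp.odd_of_ne_two (by omega)
        exact Odd.sub_even ((hpo.pow).mul hq) (hpo.sub_odd odd_one)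
    obtain ⟨q, hq, e⟩ := hodd k
    have hd : q.natAbs ∣ 2 ^ n := by
      have : q ∣ ((2 ^ n : ℕ) : ℤ) := ⟨(p : ℤ) + 1, by rw [h1]; push_cast; rw [e, mul_comm]⟩
      exact Int.dvd_natCast.1 this
    obtain ⟨a, -, ha⟩ := (Nat.dvd_prime_pow Nat.prime_two).1 hd
    have ha0 : a = 0 := by
      by_contra h0
      have := Int.natAbs_odd.2 hq
      rw [ha] at this
      exact absurd this (Nat.not_odd_iff_even.2 (Nat.even_pow.2 ⟨even_two, h0⟩))
    rw [ha0, pow_zero] at ha
    by_contra hk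
    have hlt : p ^ 1 < p ^ (2 * k + 1) := Nat.pow_lt_pow_right hp.one_lt (by omega)
    rw [pow_one] at hlt
    have hltz : (p : ℤ) < (p : ℤ) ^ (2 * k + 1) := by exact_mod_cast hlt
    rcases Int.natAbs_eq q with e' | e' <;> rw [ha] at e' <;> rw [e'] at e <;> push_cast at e <;>
      nlinarith

variable {G : Type u} [Group G] [Finite G] {p : ℕ} [Fact p.Prime] (H : EvenHyp p G)
include H

variable {S : Sylow 2 G} {A M : Subgroup G}

theorem EvenHyp.mem_omega_conj (E : Embedded S A M) {m : G} (hm : m ∈ M) {a : G} (ha : a ∈ A) :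
    m * a * m⁻¹ ∈ A := by
  haveI : Fact (Nat.Prime 2) := ⟨Nat.prime_two⟩
  haveI : (Cfsg.pPrimeCore p ↥M).Normal := CfsgLib.Core.normal_pPrimeCore p M
  set B := (Cfsg.pPrimeCore p ↥M).map M.subtype with hB
  have hBc : (Nat.card B).Coprime p := by
    rw [hB, card_map_of_injective M.subtype_injective]
    exact CfsgLib.Core.coprime_card_pPrimeCore p M
  have hAB := H.omega_le_pPrimeCore E
  have hMB : M ≤ normalizer (B : Set G) := by
    have h := le_normalizer_map (H := Cfsg.pPrimeCore p ↥M) M.subtype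
    rwa [normalizer_eq_top, ← MonoidHom.range_eq_map, range_subtype] at h
  let Ω : Subgroup G :=
    { carrier := {x | x ∈ B ∧ x ^ 2 = 1}
      one_mem' := ⟨one_mem _, one_pow 2⟩
      mul_mem' := fun {x y} hx hy => ⟨mul_mem hx.1 hy.1,
        by rw [(show Commute x y from H.hyp.comm hBc hx.1 hy.1).mul_pow, hx.2, hy.2, one_mul]⟩
      inv_mem' := fun {x} hx => ⟨inv_mem hx.1, by rw [inv_pow, hx.2, inv_one]⟩ }
  have hΩn : ∀ g ∈ M, ∀ y : G, y ∈ Ω → g * y * g⁻¹ ∈ Ω := fun g hg y hy =>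
    ⟨(mem_normalizer_iff.1 (hMB hg) y).1 hy.1, by rw [conj_pow, hy.2]; group⟩
  have hSΩ : (S : Subgroup G) ≤ normalizer (Ω : Set G) := fun s hs => by
    rw [mem_normalizer_iff]
    intro y
    refine ⟨hΩn s (H.sylow_le E hs) y, fun hy => ?_⟩
    simpa [mul_assoc] using hΩn s⁻¹ (inv_mem (H.sylow_le E hs)) _ hy
  have hΩ2 : IsPGroup 2 Ω := fun y => ⟨1, Subtype.ext (by simpa using y.2.2)⟩
  have hsup := S.3 (S.2.to_sup_of_normal_right' hΩ2 hSΩ) le_sup_left
  have hx : m * a * m⁻¹ ∈ Ω := hΩn m hm a ⟨hAB ha, E.omega.elem.2 a ha⟩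
  exact E.omega.mem _ (hsup ▸ mem_sup_right hx) hx.2

theorem EvenHyp.involution_mem (E : Embedded S A M) {t : G} (ht : t ∈ M) (ht2 : orderOf t = 2) :
    t ∈ A := by
  obtain ⟨m, hm, ha⟩ := H.exists_conj_mem_omega E ht ht2
  have := H.mem_omega_conj E (inv_mem hm) ha
  simpa [mul_assoc] using this

/-- The involutions of `A`. -/
abbrev Pts (A : Subgroup G) : Type u := {a : G // a ∈ A ∧ a ≠ 1}

omit [Fact p.Prime] H in
theorem card_pts (A : Subgroup G) : Nat.card (Pts A) + 1 = Nat.card A := by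
  have e : ({a : A | a ≠ 1} : Set A) ≃ Pts A :=
    { toFun := fun a => ⟨a.1.1, a.1.2, fun h => a.2 (Subtype.ext h)⟩
      invFun := fun a => ⟨⟨a.1, a.2.1⟩, fun h => a.2.2 (congrArg Subtype.val h)⟩
      left_inv := fun a => rfl
      right_inv := fun a => rfl }
  rw [← Nat.card_congr e, Nat.card_coe_set_eq]
  have h := Set.ncard_add_ncard_compl ({a : A | a ≠ 1} : Set A)
  rwa [show ({a : A | a ≠ 1} : Set A)ᶜ = {1} by ext x; simp, Set.ncard_singleton] at h

/-- `A` has `p + 1` elements and all its involutions have the same centraliser. -/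
theorem EvenHyp.regular (E : Embedded S A M) :
    Nat.card (Pts A) = p ∧
      ∀ a ∈ A, a ≠ 1 → centralizer ({a} : Set G) ≤ centralizer (A : Set G) := by
  classical
  haveI : Fact (Nat.Prime 2) := ⟨Nat.prime_two⟩
  haveI : Finite (Pts A) := Finite.of_injective (fun a => a.1) fun a b h => Subtype.ext h
  have hAc : (Nat.card A).Coprime p :=
    coprime_of_isPGroup Nat.prime_two H.two_ne (CfsgLib.Signalizer.elementary_isPGroup E.omega.elem)
  letI act : MulAction M (Pts A) :=
    { smul := fun m a => ⟨(m : G) * a.1 * (m : G)⁻¹, H.mem_omega_conj E m.2 a.2.1,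
        fun h => a.2.2 (conj_eq_one_iff.1 h)⟩
      one_smul := fun a => Subtype.ext (show (1 : G) * a.1 * (1 : G)⁻¹ = a.1 by simp)
      mul_smul := fun m n a => Subtype.ext (show ((m : G) * n) * a.1 * ((m : G) * n)⁻¹ =
        (m : G) * ((n : G) * a.1 * (n : G)⁻¹) * (m : G)⁻¹ by group) }
  let f : M →* Equiv.Perm (Pts A) := MulAction.toPermHom M (Pts A)
  have hfix : ∀ (m : M) (a : Pts A), m • a = a ↔ (m : G) * a.1 = a.1 * (m : G) := fun m a => by
    rw [← mul_inv_eq_iff_eq_mul]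
    exact ⟨fun h => congrArg Subtype.val h, fun h => Subtype.ext h⟩
  have hR : IsPGroup p f.range := by
    rintro ⟨_, m, rfl⟩
    obtain ⟨j, hj⟩ := exists_pow_coprime (p := p) (m : G)
    refine ⟨j, Subtype.ext ?_⟩
    rw [SubgroupClass.coe_pow]
    show f m ^ p ^ j = 1
    rw [← map_pow]
    refine Equiv.ext fun a => ((hfix _ a).2 ?_)
    rw [SubgroupClass.coe_pow]
    refine H.hyp.comm_of_normalizes hAc hj (pow_mem (?_ : (m : G) ∈ normalizer (A : Set G)) _) a.2.1
    rw [mem_normalizer_iff]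
    intro y
    refine ⟨H.mem_omega_conj E m.2, fun hy => ?_⟩
    simpa [mul_assoc] using H.mem_omega_conj E (inv_mem m.2) hy
  obtain ⟨n, hn⟩ := IsPGroup.iff_card.1 (CfsgLib.Signalizer.elementary_isPGroup E.omega.elem)
  have hn3 : 3 ≤ n := (Nat.pow_le_pow_iff_right (by norm_num)).1 (hn ▸ E.omega.card)
  have hk : Nat.card (Pts A) = 2 ^ n - 1 := by have := card_pts A; omega
  have hk7 : 7 ≤ Nat.card (Pts A) := by
    have : 2 ^ 3 ≤ 2 ^ n := Nat.pow_le_pow_right (by norm_num) hn3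
    rw [hk]; omega
  haveI : Nonempty (Pts A) := (Nat.card_pos_iff.1 (by omega)).1
  haveI : MulAction.IsPretransitive f.range (Pts A) := ⟨fun a b => by
    obtain ⟨m, hm, e⟩ := H.exists_mem_conj E (H.sylow_le E (E.omega.le a.2.1))
      (H.sylow_le E (E.omega.le b.2.1)) (E.omega.orderOf_eq a.2.1 a.2.2)
      (E.omega.orderOf_eq b.2.1 b.2.2)
    exact ⟨⟨f ⟨m, hm⟩, ⟨m, hm⟩, rfl⟩, Subtype.ext e⟩⟩
  obtain ⟨a₀⟩ := ‹Nonempty (Pts A)›
  obtain ⟨i, hi⟩ := hR.card_orbit a₀
  rw [MulAction.orbit_eq_univ, Nat.card_univ] at hi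
  have hi1 : i = 1 := by
    refine eq_one_of_two_pow_sub_one (Fact.out : p.Prime) H.five (by omega) (hk ▸ hi) ?_
    by_contra h0
    rw [show i = 0 by omega, pow_zero] at hi
    omega
  rw [hi1, pow_one] at hi
  refine ⟨hi, fun a ha ha1 c hc => mem_centralizer_iff.2 fun b hb => ?_⟩
  rcases eq_or_ne b 1 with rfl | hb1
  · simp
  have hcM : c ∈ M := E.cent a ha ha1 hc
  -- the range is regular
  have hcard : Nat.card f.range ∣ p := by
    obtain ⟨j, hj⟩ := IsPGroup.iff_card.1 hR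
    have hd : Nat.card f.range ∣ Nat.card (Equiv.Perm (Pts A)) := card_subgroup_dvd_card _
    rw [Nat.card_perm, hi, hj] at hd
    rw [hj]
    rcases Nat.lt_or_ge j 2 with hj2 | hj2
    · exact (pow_dvd_pow p (by omega : j ≤ 1)).trans (pow_one p).dvd
    · exfalso
      have h2 : p ^ 2 ∣ p.factorial := (pow_dvd_pow p hj2).trans hd
      rw [sq, ← Nat.mul_factorial_pred (Fact.out : p.Prime).ne_zero,
        Nat.mul_dvd_mul_iff_left (Fact.out : p.Prime).pos] at h2
      have := (Fact.out : p.Prime).dvd_factorial.1 h2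
      have := H.five
      omega
  let x : Pts A := ⟨a, ha, ha1⟩
  have hst : Nat.card (MulAction.stabilizer f.range x) = 1 := by
    have h := (MulAction.stabilizer f.range x).index_mul_card
    rw [MulAction.index_stabilizer_of_transitive, hi] at h
    have h2 : p * Nat.card (MulAction.stabilizer f.range x) ∣ p * 1 := by rw [h, mul_one]; exact hcard
    exact Nat.eq_one_of_dvd_one (Nat.dvd_of_mul_dvd_mul_left (Fact.out : p.Prime).pos h2)
  have hc1 : (⟨f ⟨c, hcM⟩, ⟨c, hcM⟩, rfl⟩ : f.range) = 1 := by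
    have hmem : (⟨f ⟨c, hcM⟩, ⟨c, hcM⟩, rfl⟩ : f.range) ∈ MulAction.stabilizer f.range x :=
      MulAction.mem_stabilizer_iff.2 ((hfix ⟨c, hcM⟩ x).2 (mem_centralizer_singleton_iff.1 hc))
    exact mem_bot.1 (card_eq_one.1 hst ▸ hmem)
  have h1 : (⟨c, hcM⟩ : M) • (⟨b, hb, hb1⟩ : Pts A) = ⟨b, hb, hb1⟩ := by
    have h := congrArg (fun r : f.range => (r : Equiv.Perm (Pts A)) ⟨b, hb, hb1⟩) hc1
    exact h
  exact ((hfix _ _).1 h1).symm

/-! ### Real elements -/

theorem EvenHyp.eq_one_of_inverted_mem (E : Embedded S A M) {w h : G} (hw : w ∈ A) (hh : h ∈ M)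
    (hwh : w * h * w⁻¹ = h⁻¹) (ho : Odd (orderOf h)) : h = 1 := by
  have h1 : w * (h * w⁻¹ * h⁻¹) ∈ A := mul_mem hw (H.mem_omega_conj E hh (inv_mem hw))
  rw [show w * (h * w⁻¹ * h⁻¹) = (w * h * w⁻¹) * h⁻¹ by group, hwh] at h1
  have h2 := E.omega.elem.2 _ h1
  rw [← sq, ← pow_mul, inv_pow, inv_eq_one] at h2
  have h3 : orderOf h ∣ 2 ^ 2 := orderOf_dvd_of_pow_eq_one h2
  obtain ⟨k, -, hk⟩ := (Nat.dvd_prime_pow Nat.prime_two).1 h3
  rcases Nat.eq_zero_or_pos k with rfl | hk0
  · exact orderOf_eq_one_iff.1 (by simpa using hk)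
  · rw [hk] at ho
    exact absurd ho (Nat.not_odd_iff_even.2 (Nat.even_pow.2 ⟨even_two, hk0.ne'⟩))

theorem EvenHyp.exists_omega_involution (E : Embedded S A M) :
    ∃ a ∈ A, a ≠ 1 ∧ orderOf a = 2 := by
  by_contra hno
  push Not at hno
  have hone : ∀ a ∈ A, a = 1 := fun a ha => by
    by_contra ha1
    exact hno a ha ha1 (E.omega.orderOf_eq ha ha1)
  have := E.omega.card
  rw [(eq_bot_iff_forall A).2 hone, card_bot] at this
  omega

theorem EvenHyp.exists_conj_omega (E : Embedded S A M) {t : G} (ht : orderOf t = 2) :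
    ∃ g : G, g * t * g⁻¹ ∈ A ∧ g * t * g⁻¹ ≠ 1 := by
  obtain ⟨a, ha, ha1, ha2⟩ := H.exists_omega_involution E
  obtain ⟨g, hg⟩ := H.one_class E ht ha2
  exact ⟨g, by rw [hg]; exact ha, by rw [hg]; exact ha1⟩

/-- Real elements of odd order have centralisers of odd order. -/
theorem EvenHyp.eq_one_of_commutes (E : Embedded S A M) {s w h : G} (hs : orderOf s = 2)
    (hw : orderOf w = 2) (hwh : w * h * w⁻¹ = h⁻¹) (ho : Odd (orderOf h)) (hc : h * s = s * h) :
    h = 1 := by
  obtain ⟨g, hg, hg1⟩ := H.exists_conj_omega E hs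
  suffices g * h * g⁻¹ = 1 by simpa using this
  have ho' : Odd (orderOf (g * h * g⁻¹)) := by rwa [CfsgLib.Signalizer.orderOf_conj]
  have hwh' : (g * w * g⁻¹) * (g * h * g⁻¹) * (g * w * g⁻¹)⁻¹ = (g * h * g⁻¹)⁻¹ := by
    rw [show (g * w * g⁻¹) * (g * h * g⁻¹) * (g * w * g⁻¹)⁻¹ = g * (w * h * w⁻¹) * g⁻¹ by group,
      hwh]
    group
  have hc' : g * h * g⁻¹ * (g * s * g⁻¹) = g * s * g⁻¹ * (g * h * g⁻¹) := by
    rw [show g * h * g⁻¹ * (g * s * g⁻¹) = g * (h * s) * g⁻¹ by group, hc]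
    group
  have hsM : g * s * g⁻¹ ∈ M := H.sylow_le E (E.omega.le hg)
  have hw' : orderOf (g * w * g⁻¹) = 2 := by rw [CfsgLib.Signalizer.orderOf_conj, hw]
  by_cases hwM : g * w * g⁻¹ ∈ M
  · exact H.eq_one_of_inverted_mem E (H.involution_mem E hwM hw')
      (E.cent _ hg hg1 (mem_centralizer_singleton_iff.2 hc')) hwh' ho'
  · exact CfsgLib.TwoGroups.SE.eq_one_of_inverted (H.stronglyEmbedded E)
      (E.omega.orderOf_eq hg hg1) hw' (x := ((1 : G) : G ⧸ M))
      (by rw [CfsgLib.TwoGroups.SE.smul_mk_eq_iff]; simpa using hsM)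
      (by rw [Ne, CfsgLib.TwoGroups.SE.smul_mk_eq_iff]; simpa using hwM) hc' hwh' ho'

/-- The inverting involution has no fixed point on the centraliser of a real element. -/
theorem EvenHyp.eq_one_of_fixed (E : Embedded S A M) {w h y : G} (hw : orderOf w = 2)
    (hwh : w * h * w⁻¹ = h⁻¹) (ho : Odd (orderOf h)) (h1 : h ≠ 1) (hyh : y * h = h * y)
    (hyw : y * w = w * y) : y = 1 := by
  obtain ⟨g, hg, hg1⟩ := H.exists_conj_omega E hw
  by_contra hy1
  apply h1
  suffices g * h * g⁻¹ = 1 by simpa using this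
  have hyA : g * y * g⁻¹ ∈ centralizer (A : Set G) := (H.regular E).2 _ hg hg1
    (mem_centralizer_singleton_iff.2 (by
      rw [show g * y * g⁻¹ * (g * w * g⁻¹) = g * (y * w) * g⁻¹ by group, hyw]
      group))
  have hX := H.centralizer_proper (x := g * y * g⁻¹) (by simpa using hy1)
  have hAX : A ≤ centralizer ({g * y * g⁻¹} : Set G) := fun a ha =>
    mem_centralizer_singleton_iff.2 (mem_centralizer_iff.1 hyA a ha)
  have hhM : g * h * g⁻¹ ∈ M :=
    H.le_of_four E E.omega.elem (le_trans (by norm_num) E.omega.card)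
      (E.omega.le.trans (H.sylow_le E)) hAX hX (mem_centralizer_singleton_iff.2 (by
        rw [show g * h * g⁻¹ * (g * y * g⁻¹) = g * (h * y) * g⁻¹ by group, ← hyh]
        group))
  refine H.eq_one_of_inverted_mem E hg hhM ?_ (by rwa [CfsgLib.Signalizer.orderOf_conj])
  rw [show (g * w * g⁻¹) * (g * h * g⁻¹) * (g * w * g⁻¹)⁻¹ = g * (w * h * w⁻¹) * g⁻¹ by group, hwh]
  group

/-- A nontrivial element of odd order inverted by some involution. -/
def Real (h : G) : Prop :=
  h ≠ 1 ∧ Odd (orderOf h) ∧ ∃ w : G, orderOf w = 2 ∧ w * h * w⁻¹ = h⁻¹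

/-- The centraliser of a real element is an abelian Sylow `p`-subgroup all whose elements are
inverted by the involution. -/
theorem EvenHyp.real_centralizer (E : Embedded S A M) {w h : G} (hw : orderOf w = 2)
    (hwh : w * h * w⁻¹ = h⁻¹) (ho : Odd (orderOf h)) (h1 : h ≠ 1) :
    (∀ y ∈ centralizer ({h} : Set G), w * y * w⁻¹ = y⁻¹) ∧
      ∃ P : Sylow p G, (P : Subgroup G) = centralizer ({h} : Set G) := by
  haveI : Fact (Nat.Prime 2) := ⟨Nat.prime_two⟩
  set X := centralizer ({h} : Set G) with hX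
  have hXo : Odd (Nat.card X) := by
    rw [← Nat.not_even_iff_odd, even_iff_two_dvd]
    intro hd
    obtain ⟨s, hs⟩ := exists_prime_orderOf_dvd_card' (G := X) 2 hd
    exact h1 (H.eq_one_of_commutes E (by rw [Subgroup.orderOf_coe, hs]) hw hwh ho
      (mem_centralizer_singleton_iff.1 s.2).symm)
  have hstep : ∀ a y : G, orderOf a = 2 → a * h * a⁻¹ = h⁻¹ → y ∈ X → a * y * a⁻¹ ∈ X := by
    intro a y ha hah hy
    have hhy : Commute h y := (mem_centralizer_singleton_iff.1 hy).symm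
    refine mem_centralizer_singleton_iff.2 ?_
    have e : h = a * h⁻¹ * a⁻¹ := by rw [← conj_inv, hah, inv_inv]
    calc a * y * a⁻¹ * h = a * y * a⁻¹ * (a * h⁻¹ * a⁻¹) := by rw [← e]
      _ = a * (y * h⁻¹) * a⁻¹ := by group
      _ = a * (h⁻¹ * y) * a⁻¹ := by rw [hhy.inv_left.eq]
      _ = a * h⁻¹ * a⁻¹ * (a * y * a⁻¹) := by group
      _ = h * (a * y * a⁻¹) := by rw [← e]
  have hwn : w ∈ normalizer (X : Set G) := by
    rw [mem_normalizer_iff]
    intro y
    refine ⟨hstep w y hw hwh, fun hy => ?_⟩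
    have h2 := hstep w _ hw hwh hy
    rwa [show w * (w * y * w⁻¹) * w⁻¹ = w * w * y * (w * w)⁻¹ by group,
      CfsgLib.Signalizer.involution_sq hw, one_mul, inv_one, mul_one] at h2
  have hfix : X ⊓ centralizer ({w} : Set G) = ⊥ := by
    rw [eq_bot_iff]
    rintro y ⟨hy, hyw⟩
    exact mem_bot.2 (H.eq_one_of_fixed E hw hwh ho h1 (mem_centralizer_singleton_iff.1 hy)
      (mem_centralizer_singleton_iff.1 hyw))
  have hinv : ∀ y ∈ X, w * y * w⁻¹ = y⁻¹ := CfsgLib.LocalEvenB.inverts_of_fixedPointFree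
    (by rw [← hw, pow_orderOf_eq_one]) hwn hfix
  refine ⟨hinv, ?_⟩
  have hoddX : ∀ y ∈ X, Odd (orderOf y) := fun y hy =>
    hXo.of_dvd_nat (Subgroup.orderOf_dvd_natCard _ hy)
  have hXp : IsPGroup p X := fun y =>
    (H.hyp.inverted_isPPower (fun e => by have := H.five; omega) hw (hinv y y.2)
      (hoddX y y.2)).imp fun j hj => Subtype.ext hj
  obtain ⟨P, hP⟩ := hXp.exists_le_sylow
  refine ⟨P, le_antisymm ?_ hP⟩
  -- a central element of the Sylow subgroup lies in `X`
  haveI : Nontrivial (P : Subgroup G) :=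
    ⟨⟨⟨h, hP (mem_centralizer_singleton_iff.2 rfl)⟩, 1, fun e => h1 (congrArg Subtype.val e)⟩⟩
  haveI := P.2.center_nontrivial
  obtain ⟨z, hz⟩ := exists_ne (1 : center (P : Subgroup G))
  have hzc : ∀ y ∈ (P : Subgroup G), y * (z.1 : G) = (z.1 : G) * y := fun y hy =>
    congrArg Subtype.val (mem_center_iff.1 z.2 ⟨y, hy⟩)
  have hz1 : (z.1 : G) ≠ 1 := fun e => hz (Subtype.ext (Subtype.ext e))
  have hzX : (z.1 : G) ∈ X :=
    mem_centralizer_singleton_iff.2 (hzc h (hP (mem_centralizer_singleton_iff.2 rfl))).symm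
  -- the centraliser of `z` is abelian, as it is inverted as well
  obtain ⟨Y, hY⟩ : ∃ Y, Y = centralizer ({(z.1 : G)} : Set G) := ⟨_, rfl⟩
  have hYinv : ∀ y ∈ Y, w * y * w⁻¹ = y⁻¹ := by
    have hYo : Odd (Nat.card Y) := by
      rw [← Nat.not_even_iff_odd, even_iff_two_dvd]
      intro hd
      obtain ⟨s, hs⟩ := exists_prime_orderOf_dvd_card' (G := Y) 2 hd
      have hsY : (s : G) ∈ centralizer ({(z.1 : G)} : Set G) := by rw [← hY]; exact s.2
      exact hz1 (H.eq_one_of_commutes E (by rw [Subgroup.orderOf_coe, hs]) hw (hinv _ hzX)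
        (hoddX _ hzX) (mem_centralizer_singleton_iff.1 hsY).symm)
    have hzz : ∀ a y : G, a * (z.1 : G) * a⁻¹ = (z.1 : G)⁻¹ → y ∈ Y → a * y * a⁻¹ ∈ Y := by
      intro a y haz hy
      rw [hY] at hy ⊢
      have hzy : Commute (z.1 : G) y := (mem_centralizer_singleton_iff.1 hy).symm
      refine mem_centralizer_singleton_iff.2 ?_
      have e : (z.1 : G) = a * (z.1 : G)⁻¹ * a⁻¹ := by rw [← conj_inv, haz, inv_inv]
      calc a * y * a⁻¹ * z.1 = a * y * a⁻¹ * (a * (z.1 : G)⁻¹ * a⁻¹) := by rw [← e]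
        _ = a * (y * (z.1 : G)⁻¹) * a⁻¹ := by group
        _ = a * ((z.1 : G)⁻¹ * y) * a⁻¹ := by rw [hzy.inv_left.eq]
        _ = a * (z.1 : G)⁻¹ * a⁻¹ * (a * y * a⁻¹) := by group
        _ = z.1 * (a * y * a⁻¹) := by rw [← e]
    refine CfsgLib.LocalEvenB.inverts_of_fixedPointFree (by rw [← hw, pow_orderOf_eq_one]) ?_ ?_
    · rw [mem_normalizer_iff]
      intro y
      refine ⟨hzz w y (hinv _ hzX), fun hy => ?_⟩
      have h2 := hzz w _ (hinv _ hzX) hy
      rwa [show w * (w * y * w⁻¹) * w⁻¹ = w * w * y * (w * w)⁻¹ by group,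
        CfsgLib.Signalizer.involution_sq hw, one_mul, inv_one, mul_one] at h2
    · rw [eq_bot_iff]
      rintro y ⟨hy, hyw⟩
      exact mem_bot.2 (H.eq_one_of_fixed E hw (hinv _ hzX) (hoddX _ hzX) hz1
        (mem_centralizer_singleton_iff.1 (hY ▸ hy)) (mem_centralizer_singleton_iff.1 hyw))
  intro y hy
  have hyY : y ∈ Y := hY ▸ mem_centralizer_singleton_iff.2 (hzc y hy)
  have hhY : h ∈ Y := hY ▸ mem_centralizer_singleton_iff.2 (hzc h (hP (mem_centralizer_singleton_iff.2 rfl)))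
  -- two inverted elements with inverted product commute
  refine mem_centralizer_singleton_iff.2 ?_
  have e := hYinv (y * h) (mul_mem hyY hhY)
  rw [show w * (y * h) * w⁻¹ = (w * y * w⁻¹) * (w * h * w⁻¹) by group, hYinv y hyY, hYinv h hhY,
    ← mul_inv_rev] at e
  exact (inv_injective e).symm

/-- Two non-commuting involutions have a real product. -/
theorem EvenHyp.real_mul (E : Embedded S A M) {t u : G} (ht : orderOf t = 2) (hu : orderOf u = 2)
    (hne : t * u ≠ u * t) : Real (t * u) := by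
  refine ⟨fun e => hne ?_, ?_, t, ht, CfsgLib.Signalizer.conj_mul_eq_inv ht hu⟩
  · have : u = t := by
      rw [← CfsgLib.Signalizer.involution_inv ht]; exact eq_inv_of_mul_eq_one_right e
    rw [this]
  obtain ⟨x, hx⟩ := CfsgLib.TwoGroups.SE.exists_fixed (H.stronglyEmbedded E) ht
  by_cases hux : u • x = x
  · exfalso
    obtain ⟨g, rfl⟩ := QuotientGroup.mk_surjective x
    rw [CfsgLib.TwoGroups.SE.smul_mk_eq_iff] at hx hux
    have h1 := H.involution_mem E hx (by rw [CfsgLib.TwoGroups.SE.orderOf_conj', ht])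
    have h2 := H.involution_mem E hux (by rw [CfsgLib.TwoGroups.SE.orderOf_conj', hu])
    apply hne
    have h3 := H.comm_A E.omega h1 h2
    calc t * u = g * ((g⁻¹ * t * g) * (g⁻¹ * u * g)) * g⁻¹ := by group
      _ = g * ((g⁻¹ * u * g) * (g⁻¹ * t * g)) * g⁻¹ := by rw [h3]
      _ = u * t := by group
  · exact CfsgLib.TwoGroups.SE.odd_orderOf_mul (H.stronglyEmbedded E) ht hu hx hux

theorem EvenHyp.exists_real (E : Embedded S A M) : ∃ h : G, Real h := by
  obtain ⟨a, ha, ha1, ha2⟩ := H.exists_omega_involution E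
  by_contra hno
  have hall : ∀ t : G, orderOf t = 2 → t ∈ A := by
    intro t ht
    have hc : a * t = t * a := by
      by_contra hne
      exact hno ⟨_, H.real_mul E ha2 ht hne⟩
    exact H.involution_mem E (E.cent a ha ha1 (mem_centralizer_singleton_iff.2 hc.symm)) ht
  refine H.not_normal (X := A) (fun e => ha1 (mem_bot.1 (e ▸ ha)))
    (fun e => E.max.1 (top_le_iff.1 (e.ge.trans (E.omega.le.trans (H.sylow_le E))))) ?_
  rw [eq_top_iff]
  intro g _
  rw [mem_normalizer_iff]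
  intro b
  have hmem : ∀ k c : G, c ∈ A → k * c * k⁻¹ ∈ A := fun k c hc => by
    rcases eq_or_ne c 1 with rfl | hc1
    · simp
    · exact hall _ (by rw [CfsgLib.Signalizer.orderOf_conj, E.omega.orderOf_eq hc hc1])
  refine ⟨hmem g b, fun hb => ?_⟩
  simpa [mul_assoc] using hmem g⁻¹ _ hb

/-- The count of pairs of involutions. -/
theorem EvenHyp.count_false (E : Embedded S A M) : False := by
  classical
  haveI : Fact (Nat.Prime 2) := ⟨Nat.prime_two⟩
  haveI := Fintype.ofFinite G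
  obtain ⟨h₀, h₀1, h₀o, w₀, hw₀, hwh₀⟩ := H.exists_real E
  obtain ⟨hinv₀, P, hP⟩ := H.real_centralizer E hw₀ hwh₀ h₀o h₀1
  have hp : p.Prime := Fact.out
  obtain ⟨e, he⟩ := IsPGroup.iff_card.1 P.2
  have hPne : (P : Subgroup G) ≠ ⊥ := fun e' =>
    h₀1 (mem_bot.1 (e' ▸ hP.ge (mem_centralizer_singleton_iff.2 rfl)))
  have he1 : 1 ≤ e := by
    by_contra h0
    rw [show e = 0 by omega, pow_zero] at he
    exact hPne (card_eq_one.1 he)
  have hPcomm : ∀ a ∈ (P : Subgroup G), ∀ b ∈ (P : Subgroup G), a * b = b * a := fun a ha b hb => by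
    have e1 := hinv₀ (a * b) (hP ▸ mul_mem ha hb)
    rw [show w₀ * (a * b) * w₀⁻¹ = (w₀ * a * w₀⁻¹) * (w₀ * b * w₀⁻¹) by group, hinv₀ a (hP ▸ ha),
      hinv₀ b (hP ▸ hb), ← mul_inv_rev] at e1
    exact (inv_injective e1).symm
  -- nontrivial `p`-elements are real
  have hreal : ∀ y : G, y ≠ 1 → IsPGroup p (zpowers y) → Real y := by
    intro y hy hyp
    obtain ⟨Q, hQ⟩ := hyp.exists_le_sylow
    obtain ⟨g, hg⟩ := MulAction.exists_smul_eq G Q P
    have h1 : g * y * g⁻¹ ∈ (P : Subgroup G) := by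
      rw [← hg, Sylow.coe_subgroup_smul]
      exact ⟨y, hQ (mem_zpowers y), rfl⟩
    refine ⟨hy, ?_, g⁻¹ * w₀ * g, by rw [CfsgLib.TwoGroups.SE.orderOf_conj', hw₀], ?_⟩
    · obtain ⟨k, hk⟩ := IsPGroup.iff_card.1 hyp
      rw [Nat.card_zpowers] at hk
      rw [hk]
      exact (hp.odd_of_ne_two (fun e => by have := H.five; omega)).pow
    · calc g⁻¹ * w₀ * g * y * (g⁻¹ * w₀ * g)⁻¹ = g⁻¹ * (w₀ * (g * y * g⁻¹) * w₀⁻¹) * g := by group
        _ = g⁻¹ * (g * y * g⁻¹)⁻¹ * g := by rw [hinv₀ _ (hP ▸ h1)]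
        _ = y⁻¹ := by group
  obtain ⟨a, ha, ha1, ha2⟩ := H.exists_omega_involution E
  let T := {t : G // orderOf t = 2}
  -- commuting involutions
  have hcomm : ∀ t : T, Nat.card {u : T // (t : G) * (u : G) = u * t} = p := by
    intro t
    obtain ⟨g, hg, hg1⟩ := H.exists_conj_omega E t.2
    refine Eq.trans ?_ (H.regular E).1
    refine Nat.card_congr
      { toFun := fun u => ⟨g * (u.1 : G) * g⁻¹, H.involution_mem E
          (E.cent _ hg hg1 (mem_centralizer_singleton_iff.2 ?_))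
          (by rw [CfsgLib.Signalizer.orderOf_conj]; exact u.1.2),
          fun e' => ne_one_of_orderOf_two u.1.2 (conj_eq_one_iff.1 e')⟩
        invFun := fun b => ⟨⟨g⁻¹ * b.1 * g, by
          rw [CfsgLib.TwoGroups.SE.orderOf_conj', E.omega.orderOf_eq b.2.1 b.2.2]⟩, ?_⟩
        left_inv := fun u => Subtype.ext (Subtype.ext (by simp [mul_assoc]))
        right_inv := fun b => Subtype.ext (by simp [mul_assoc]) }
    · rw [show g * (u.1 : G) * g⁻¹ * (g * (t : G) * g⁻¹) = g * ((u.1 : G) * t) * g⁻¹ by group,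
        ← u.2]
      group
    · show (t : G) * (g⁻¹ * b.1 * g) = g⁻¹ * b.1 * g * t
      calc (t : G) * (g⁻¹ * b.1 * g) = g⁻¹ * ((g * t * g⁻¹) * b.1) * g := by group
        _ = g⁻¹ * (b.1 * (g * t * g⁻¹)) * g := by rw [H.comm_A E.omega hg b.2.1]
        _ = _ := by group
  let N1 := {q : T × T // (q.1 : G) * q.2 ≠ q.2 * q.1}
  have hN1 : Nat.card N1 = Nat.card T * (Nat.card T - p) := by
    have h1 : Nat.card N1 = ∑ t : T, Nat.card {u : T // (t : G) * u ≠ u * t} := by
      rw [← Nat.card_sigma]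
      exact Nat.card_congr
        { toFun := fun q => ⟨q.1.1, q.1.2, q.2⟩
          invFun := fun s => ⟨(s.1, s.2.1), s.2.2⟩
          left_inv := fun q => rfl
          right_inv := fun s => rfl }
    have h2 : ∀ t : T, Nat.card {u : T // (t : G) * u ≠ u * t} = Nat.card T - p := by
      intro t
      have h := Nat.card_congr (Equiv.sumCompl (fun u : T => (t : G) * u = u * t))
      rw [Nat.card_sum, hcomm] at h
      simp only [ne_eq] at h ⊢
      omega
    rw [h1, Finset.sum_congr rfl fun t _ => h2 t, Finset.sum_const, Finset.card_univ, smul_eq_mul,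
      Nat.card_eq_fintype_card]
  let U := {y : G // y ≠ 1 ∧ IsPGroup p (zpowers y)}
  have hprod : ∀ q : N1, (q.1.1 : G) * q.1.2 ≠ 1 ∧ IsPGroup p (zpowers ((q.1.1 : G) * q.1.2)) := by
    intro q
    obtain ⟨h1, ho, w, hw, hwh⟩ := H.real_mul E q.1.1.2 q.1.2.2 q.2
    refine ⟨h1, ?_⟩
    obtain ⟨Hinv, Q, hQ⟩ := H.real_centralizer E hw hwh ho h1
    exact Q.2.to_le (zpowers_le.2 (hQ.ge (mem_centralizer_singleton_iff.2 rfl)))
  have hN2 : Nat.card N1 = Nat.card U * p ^ e := by
    have h1 : Nat.card N1 = ∑ y : U, Nat.card {t : T // (t : G) * y.1 * (t : G)⁻¹ = (y.1 : G)⁻¹} := by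
      rw [← Nat.card_sigma]
      refine Nat.card_congr
        { toFun := fun q => ⟨⟨(q.1.1 : G) * q.1.2, hprod q⟩, q.1.1,
            CfsgLib.Signalizer.conj_mul_eq_inv q.1.1.2 q.1.2.2⟩
          invFun := fun s => ⟨(s.2.1, ⟨(s.2.1 : G) * s.1.1, ?_⟩), ?_⟩
          left_inv := fun q => ?_
          right_inv := fun s => ?_ }
      · obtain ⟨⟨y, hy1, hyp⟩, ⟨⟨t, ht⟩, hty⟩⟩ := s
        have e2 : t * y * (t * y) = 1 := by
          have h := congrArg (fun x => x * y) hty
          simp only [inv_mul_cancel] at h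
          rwa [CfsgLib.Signalizer.involution_inv ht, mul_assoc] at h
        refine CfsgLib.Signalizer.orderOf_eq_two_of (fun e3 => ?_) e2
        have hyt : y = t := by
          rw [← CfsgLib.Signalizer.involution_inv ht]; exact eq_inv_of_mul_eq_one_right e3
        obtain ⟨-, ho, -⟩ := hreal y hy1 hyp
        rw [hyt, ht] at ho
        exact absurd ho (by decide)
      · obtain ⟨⟨y, hy1, hyp⟩, ⟨⟨t, ht⟩, hty⟩⟩ := s
        show t * (t * y) ≠ t * y * t
        intro e3
        rw [← mul_assoc, CfsgLib.Signalizer.involution_sq ht, one_mul] at e3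
        rw [CfsgLib.Signalizer.involution_inv ht, ← e3] at hty
        obtain ⟨-, ho, -⟩ := hreal y hy1 hyp
        rw [eq_inv_iff_mul_eq_one] at hty
        rw [CfsgLib.Signalizer.orderOf_eq_two_of hy1 hty] at ho
        exact absurd ho (by decide)
      · obtain ⟨⟨⟨t, ht⟩, ⟨u, hu⟩⟩, hne⟩ := q
        exact Subtype.ext (Prod.ext rfl (Subtype.ext (show t * (t * u) = u by
          rw [← mul_assoc, CfsgLib.Signalizer.involution_sq ht, one_mul])))
      · obtain ⟨⟨y, hy⟩, ⟨⟨t, ht⟩, hty⟩⟩ := s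
        have : t * (t * y) = y := by rw [← mul_assoc, CfsgLib.Signalizer.involution_sq ht, one_mul]
        refine Sigma.ext (Subtype.ext this) ?_
        exact (Subtype.heq_iff_coe_eq (by intro x; simp only [this])).2 rfl
    have h2 : ∀ y : U, Nat.card {t : T // (t : G) * y.1 * (t : G)⁻¹ = (y.1 : G)⁻¹} = p ^ e := by
      intro y
      obtain ⟨hy1, ho, w, hw, hwy⟩ := hreal y.1 y.2.1 y.2.2
      obtain ⟨hinv, Q, hQ⟩ := H.real_centralizer E hw hwy ho hy1
      rw [← he, P.card_eq_multiplicity, ← Q.card_eq_multiplicity, hQ]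
      refine Nat.card_congr
        { toFun := fun t => ⟨w * (t.1 : G), mem_centralizer_singleton_iff.2 ?_⟩
          invFun := fun x => ⟨⟨w * (x : G), ?_⟩, ?_⟩
          left_inv := fun t => Subtype.ext (Subtype.ext (show w * (w * (t.1 : G)) = t.1 by
            rw [← mul_assoc, CfsgLib.Signalizer.involution_sq hw, one_mul]))
          right_inv := fun x => Subtype.ext (show w * (w * (x : G)) = x by
            rw [← mul_assoc, CfsgLib.Signalizer.involution_sq hw, one_mul]) }
      · have e1 : w * (t.1 : G) * y.1 * (w * (t.1 : G))⁻¹ = y.1 := by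
          calc w * (t.1 : G) * y.1 * (w * (t.1 : G))⁻¹
              = w * ((t.1 : G) * y.1 * (t.1 : G)⁻¹) * w⁻¹ := by group
            _ = w * (y.1 : G)⁻¹ * w⁻¹ := by rw [t.2]
            _ = y.1 := by rw [← conj_inv, hwy, inv_inv]
        exact mul_inv_eq_iff_eq_mul.1 e1
      · have hxy := mem_centralizer_singleton_iff.1 x.2
        refine CfsgLib.Signalizer.orderOf_eq_two_of (fun e3 => ?_) ?_
        · have hxw : (x : G) = w := by
            rw [← CfsgLib.Signalizer.involution_inv hw]; exact eq_inv_of_mul_eq_one_right e3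
          rw [hxw] at hxy
          rw [hxy, mul_inv_cancel_right, eq_inv_iff_mul_eq_one] at hwy
          rw [CfsgLib.Signalizer.orderOf_eq_two_of hy1 hwy] at ho
          exact absurd ho (by decide)
        · calc w * (x : G) * (w * (x : G)) = (w * (x : G) * w⁻¹) * (x : G) := by
                rw [CfsgLib.Signalizer.involution_inv hw]; group
            _ = 1 := by rw [hinv x x.2, inv_mul_cancel]
      · show w * (x : G) * y.1 * (w * (x : G))⁻¹ = (y.1 : G)⁻¹
        calc w * (x : G) * y.1 * (w * (x : G))⁻¹ = w * ((x : G) * y.1 * (x : G)⁻¹) * w⁻¹ := by group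
          _ = w * y.1 * w⁻¹ := by rw [mem_centralizer_singleton_iff.1 x.2, mul_inv_cancel_right]
          _ = _ := hwy
    rw [h1, Finset.sum_congr rfl fun y _ => h2 y, Finset.sum_const, Finset.card_univ, smul_eq_mul,
      Nat.card_eq_fintype_card]
  -- the centraliser of an involution has order prime to `p`
  have hCp : (Nat.card (centralizer ({a} : Set G))).Coprime p := by
    rw [Nat.coprime_comm, hp.coprime_iff_not_dvd]
    intro hd
    obtain ⟨y, hy⟩ := exists_prime_orderOf_dvd_card' (G := centralizer ({a} : Set G)) p hd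
    rw [← Subgroup.orderOf_coe] at hy
    have hy1 : (y : G) ≠ 1 := fun e' => hp.ne_one (by rw [← hy, e', orderOf_one])
    obtain ⟨-, ho, w, hw, hwy⟩ := hreal y hy1 (IsPGroup.of_card (n := 1)
      (by rw [Nat.card_zpowers, hy, pow_one]))
    exact hy1 (H.eq_one_of_commutes E ha2 hw hwy ho (mem_centralizer_singleton_iff.1 y.2))
  have hclass : Nat.card T * Nat.card (centralizer ({a} : Set G)) = Nat.card G := by
    rw [← (centralizer ({a} : Set G)).index_mul_card, index]
    congr 1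
    symm
    refine Nat.card_congr (Equiv.ofBijective
      (Quotient.lift (fun g : G => (⟨g * a * g⁻¹, by rw [CfsgLib.Signalizer.orderOf_conj, ha2]⟩ : T))
        ?_) ⟨?_, ?_⟩)
    · intro g k hgk
      have h := mem_centralizer_singleton_iff.1
        (show g⁻¹ * k ∈ centralizer ({a} : Set G) from QuotientGroup.leftRel_apply.1 hgk)
      refine Subtype.ext ?_
      show g * a * g⁻¹ = k * a * k⁻¹
      calc g * a * g⁻¹ = g * (a * (g⁻¹ * k)) * k⁻¹ := by group
        _ = g * (g⁻¹ * k * a) * k⁻¹ := by rw [h]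
        _ = k * a * k⁻¹ := by group
    · intro q₁ q₂ hq
      induction q₁ using Quotient.inductionOn with | _ g => ?_
      induction q₂ using Quotient.inductionOn with | _ k => ?_
      refine Quotient.sound (QuotientGroup.leftRel_apply.2 (mem_centralizer_singleton_iff.2 ?_))
      have h' : g * a * g⁻¹ = k * a * k⁻¹ := congrArg Subtype.val hq
      calc g⁻¹ * k * a = g⁻¹ * (k * a * k⁻¹) * k := by group
        _ = g⁻¹ * (g * a * g⁻¹) * k := by rw [h']
        _ = a * (g⁻¹ * k) := by group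
    · intro t
      obtain ⟨g, hg⟩ := H.one_class E ha2 t.2
      exact ⟨Quotient.mk'' g, Subtype.ext hg⟩
  have hT : p ^ e ∣ Nat.card T := by
    refine (hCp.symm.pow_left e).dvd_of_dvd_mul_right ?_
    rw [hclass, ← he]
    exact card_subgroup_dvd_card _
  have hU : p ∣ Nat.card U + 1 := by
    let U' := {y : G // IsPGroup p (zpowers y)}
    have hUU : Nat.card U' = Nat.card U + 1 := by
      have e1 : U ≃ {y : U' // y.1 ≠ 1} :=
        { toFun := fun y => ⟨⟨y.1, y.2.2⟩, y.2.1⟩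
          invFun := fun y => ⟨y.1.1, y.2, y.1.2⟩
          left_inv := fun y => rfl
          right_inv := fun y => rfl }
      have e2 := Nat.card_congr (Equiv.sumCompl (fun y : U' => y.1 ≠ 1))
      rw [Nat.card_sum, ← Nat.card_congr e1] at e2
      have e3 : Nat.card {y : U' // ¬ y.1 ≠ 1} = 1 := by
        rw [Nat.card_eq_one_iff_unique]
        refine ⟨⟨fun u v => Subtype.ext (Subtype.ext ((not_not.1 u.2).trans (not_not.1 v.2).symm))⟩,
          ⟨⟨⟨1, ?_⟩, not_not.2 rfl⟩⟩⟩
        rw [zpowers_one_eq_bot]; exact IsPGroup.of_bot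
      omega
    letI actU : MulAction (P : Subgroup G) U' :=
      { smul := fun g y => ⟨(g : G) * y.1 * (g : G)⁻¹, by
          have h := y.2.map (MulAut.conj (g : G)).toMonoidHom
          rwa [MonoidHom.map_zpowers] at h⟩
        one_smul := fun y => Subtype.ext (show (1 : G) * y.1 * (1 : G)⁻¹ = y.1 by simp)
        mul_smul := fun g k y => Subtype.ext (show ((g : G) * k) * y.1 * ((g : G) * k)⁻¹ =
          (g : G) * ((k : G) * y.1 * (k : G)⁻¹) * (g : G)⁻¹ by group) }
    have hfixed : Nat.card (MulAction.fixedPoints (P : Subgroup G) U') = p ^ e := by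
      rw [← he]
      refine Nat.card_congr
        { toFun := fun y => ⟨y.1.1, hP.ge (mem_centralizer_singleton_iff.2 ?_)⟩
          invFun := fun x => ⟨⟨x.1, ?_⟩, ?_⟩
          left_inv := fun y => rfl
          right_inv := fun x => rfl }
      · have h := congrArg Subtype.val (y.2 ⟨h₀, hP.ge (mem_centralizer_singleton_iff.2 rfl)⟩)
        exact (mul_inv_eq_iff_eq_mul.1 (show h₀ * y.1.1 * h₀⁻¹ = y.1.1 from h)).symm
      · exact P.2.to_le (zpowers_le.2 x.2)
      · intro g
        refine Subtype.ext ?_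
        show (g : G) * (x : G) * (g : G)⁻¹ = (x : G)
        rw [hPcomm _ g.2 _ x.2, mul_inv_cancel_right]
    have hmod := P.2.card_modEq_card_fixedPoints U'
    rw [hfixed, hUU] at hmod
    exact (Nat.modEq_zero_iff_dvd).1
      (hmod.trans (Nat.modEq_zero_iff_dvd.2 (dvd_pow_self p (by omega))))
  have hd : p ^ (e + 1) ∣ Nat.card U * p ^ e := by
    rw [← hN2, hN1, pow_succ]
    exact mul_dvd_mul hT (Nat.dvd_sub ((dvd_pow_self p (by omega)).trans hT) dvd_rfl)
  rw [pow_succ, mul_comm (Nat.card U), Nat.mul_dvd_mul_iff_left (pow_pos hp.pos e)] at hd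
  exact hp.not_dvd_one ((Nat.dvd_add_right hd).1 hU)

omit [Finite G] in
/-- No minimal simple group of even order satisfies the hypothesis. -/
theorem EvenHyp.false [Finite G] : False := by
  obtain ⟨S, A, M, E⟩ := H.exists_embedded
  exact H.count_false E

end CfsgLib.Techniques.PPrimeAbelian
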