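import Cfsg.Agent.Lib.Techniques.PPrimeAbelian.Even
import Cfsg.Agent.Lib.TwoGroups.TransferControlled
import Cfsg.Agent.S0118

/-!
Owner: helper11. The Sylow 2-subgroup lies in `O_{p'}(M)`: otherwise `N(Z(J(P))) ≤ M` would control
the transfer onto a nontrivial `p`-quotient of `M`.
-/

set_option autoImplicit false
set_option linter.all false
set_option maxHeartbeats 800000

namespace CfsgLib.Techniques.PPrimeAbelian

open Subgroup

universe u

variable {G : Type u} [Group G] [Finite G] {p : ℕ} [Fact p.Prime]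

section Stable

omit [Finite G] in
theorem normalizer_le_normalizer_centerThompsonOf (P : Subgroup G) :
    normalizer (P : Set G) ≤ normalizer (Cfsg.centerThompsonOf p P : Set G) := by
  intro g hg
  rw [mem_normalizer_iff_map_conj_eq] at hg ⊢
  have h := CfsgLib.Transfer.centerThompsonOf_map (p := p) (MulAut.conj g).toMonoidHom P
    (by rw [(MonoidHom.ker_eq_bot_iff _).2 (MulAut.conj g).injective]; exact disjoint_bot_right)
  exact h.trans (congrArg _ hg)

theorem noQuad_of_solvable {K : Type u} [Group K] [Finite K] (hp5 : 5 ≤ p)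
    (hK : Group.IsSolvable K) : CfsgLib.Transfer.NoQuad p K :=
  CfsgLib.Transfer.noQuad_of_not_involves
    (fun X _ _ V L h1 h2 h3 h4 x hx hx1 h5 h6 =>
      CfsgLib.Transfer.involves_SLTwo_of_quadratic (by omega) V L h1 h2 h3 h4 x hx hx1 h5 h6)
    (CfsgLib.Transfer.not_involves_SLTwo_of_solvable (by omega) hK (fun h => by omega))

/-- Glauberman's factorisation of a solvable group, `p ≥ 5`. -/
theorem sup_normalizer_zj {K : Type u} [Group K] [Finite K] (hp5 : 5 ≤ p)
    (hK : Group.IsSolvable K) (P : Sylow p K) :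
    normalizer (Cfsg.centerThompsonOf p (P : Subgroup K) : Set K) ⊔ Cfsg.pPrimeCore p K = ⊤ := by
  haveI : (Cfsg.pPrimeCore p K).Normal := CfsgLib.Core.normal_pPrimeCore p K
  haveI := hK
  set N := Cfsg.pPrimeCore p K with hN
  set π := QuotientGroup.mk' N with hπ
  have hsurj : Function.Surjective π := QuotientGroup.mk'_surjective N
  have hc := CfsgLib.PLocal.isPConstrained_iff.1 (CfsgLib.PLocal.isPConstrained_of_isPSolvable
    (CfsgLib.Core.isPSolvable_of_isSolvable (p := p) hK))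
  have hq : Group.IsSolvable (K ⧸ N) := Group.isSolvable_of_surjective (f := π) hsurj
  have hn := CfsgLib.Transfer.centerThompson_normal (by omega) hc (P.mapSurjective hsurj)
    (CfsgLib.Transfer.stableAt_of_noQuad (noQuad_of_solvable hp5 hq) _)
  have hdisj : Disjoint (P : Subgroup K) π.ker := by
    rw [hπ, QuotientGroup.ker_mk']
    obtain ⟨k, hk⟩ := IsPGroup.iff_card.1 P.2
    exact disjoint_of_coprime_natCard
      (by rw [hk]; exact ((CfsgLib.Core.coprime_card_pPrimeCore p K).symm.pow_left k))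
  have h2 : (Cfsg.centerThompsonOf p (P : Subgroup K)).map π =
      Cfsg.centerThompsonOf p ((P : Subgroup K).map π) :=
    CfsgLib.Transfer.centerThompsonOf_map π _ hdisj
  have hZP : IsPGroup p (Cfsg.centerThompsonOf p (P : Subgroup K)) :=
    P.2.to_le (inf_le_left.trans (map_subtype_le _))
  have h3 := CfsgLib.PLocal.map_normalizer_eq N (CfsgLib.Core.coprime_card_pPrimeCore p K) hZP
  rw [h2, show normalizer (Cfsg.centerThompsonOf p ((P : Subgroup K).map π) : Set (K ⧸ N)) = ⊤ from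
    normalizer_eq_top_iff.2 hn] at h3
  have h4 := congrArg (Subgroup.comap π) h3
  rwa [comap_map_eq, QuotientGroup.ker_mk', comap_top] at h4

end Stable

variable (H : EvenHyp p G)
include H

theorem EvenHyp.not_involves : ¬ ∃ (U V : Subgroup G) (hV : (V.subgroupOf U).Normal),
    Nonempty ((U ⧸ V.subgroupOf U) ≃* Matrix.SpecialLinearGroup (Fin 2) (ZMod p)) := by
  intro hinv
  haveI : Fact (Nat.Prime 2) := ⟨Nat.prime_two⟩
  obtain ⟨Q, hQ, hQc⟩ := CfsgLib.Transfer.exists_two_subgroup_SLTwo (p := p)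
    (fun e => by have := H.five; omega)
  let T : Sylow 2 G := default
  obtain ⟨K, R, hR, ⟨e⟩⟩ :=
    CfsgLib.Fusion.involves_sylow hinv Q hQ T (MonoidHom.id _) Function.injective_id
  refine hQc ⟨⟨fun a b => ?_⟩⟩
  obtain ⟨a', rfl⟩ := (e.surjective.comp (QuotientGroup.mk'_surjective _)) a
  obtain ⟨b', rfl⟩ := (e.surjective.comp (QuotientGroup.mk'_surjective _)) b
  simp only [Function.comp_apply, ← map_mul]
  congr 2
  exact Subtype.ext (Subtype.ext (H.two_comm T.2 (a' : ↥(T : Subgroup G)).2 (b' : ↥(T : Subgroup G)).2))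

variable {S : Sylow 2 G} {A M : Subgroup G}

/-- A nontrivial homomorphism of `M` into an abelian `p`-group. -/
theorem EvenHyp.exists_pQuotient (E : Embedded S A M) :
    ∃ (C : Type u) (_ : CommGroup C) (ψ : M →* C), (∀ c : C, ∃ j : ℕ, c ^ p ^ j = 1) ∧
      ∃ m, ψ m ≠ 1 := by
  haveI : Fact (Nat.Prime 2) := ⟨Nat.prime_two⟩
  have hSM := H.sylow_le E
  have hMs := H.solvable E.max.1
  set SM := S.subtype hSM with hSMdef
  have hSMc := H.sylow_comm_of_subgroup M SM
  haveI : (Cfsg.oddCore ↥M).Normal := CfsgLib.Core.normal_pPrimeCore 2 M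
  set π := QuotientGroup.mk' (Cfsg.oddCore ↥M) with hπ
  let Sb := (SM : Subgroup M).map π
  haveI hSbn : Sb.Normal := by
    have h := (sup_oddCore_normal hMs SM hSMc).map π (QuotientGroup.mk'_surjective _)
    have hb : (Cfsg.oddCore ↥M).map π = ⊥ := QuotientGroup.map_mk'_self _
    rwa [Subgroup.map_sup, hb, sup_bot_eq] at h
  let φ : M →* MulAut Sb := (MulAut.conjNormal (H := Sb)).comp π
  have hφ : ∀ m : M, (∀ s ∈ (SM : Subgroup M), π (m * s * m⁻¹) = π s) → φ m = 1 := by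
    intro m hm
    refine MulEquiv.ext fun x => Subtype.ext ?_
    obtain ⟨_, s, hs, rfl⟩ := x
    show ((MulAut.conjNormal (π m) ⟨π s, _⟩ : Sb) : M ⧸ Cfsg.oddCore ↥M) = π s
    rw [MulAut.conjNormal_apply]
    simpa using hm s hs
  have hcop : (Nat.card (S : Subgroup G)).Coprime p := coprime_of_isPGroup Nat.prime_two H.two_ne S.2
  -- the image is a `p`-group
  have hR : ∀ m : M, ∃ j : ℕ, φ m ^ p ^ j = 1 := by
    intro m
    obtain ⟨o, ho, n, hn, rfl⟩ : ∃ o ∈ Cfsg.oddCore ↥M, ∃ n ∈ normalizer ((SM : Subgroup M) : Set M),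
        m = o * n := by
      have h : m ∈ Cfsg.oddCore ↥M ⊔ normalizer ((SM : Subgroup M) : Set M) := by
        rw [oddCore_sup_normalizer hMs SM hSMc]; exact mem_top _
      rw [mem_sup_of_normal_left] at h
      obtain ⟨o, ho, n, hn, e⟩ := h
      exact ⟨o, ho, n, hn, e.symm⟩
    have ho1 : φ o = 1 := by
      show MulAut.conjNormal (π o) = 1
      rw [show π o = 1 from (QuotientGroup.eq_one_iff o).2 ho, map_one]
    obtain ⟨j, hj⟩ := exists_pow_coprime (p := p) (n : G)
    refine ⟨j, ?_⟩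
    rw [map_mul, ho1, one_mul, ← map_pow]
    refine hφ _ fun s hs => congrArg π (Subtype.ext ?_)
    have hnG : ((n : G) ^ p ^ j) ∈ normalizer ((S : Subgroup G) : Set G) := by
      refine pow_mem ?_ _
      have h := le_normalizer_map M.subtype (mem_map_of_mem M.subtype hn)
      rw [hSMdef, Sylow.coe_subtype, map_subgroupOf_eq_of_le hSM] at h
      exact h
    have hsS : (s : G) ∈ (S : Subgroup G) := by
      rw [hSMdef, Sylow.coe_subtype] at hs
      exact hs
    show ((n ^ p ^ j : M) : G) * (s : G) * ((n ^ p ^ j : M) : G)⁻¹ = (s : G)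
    rw [SubgroupClass.coe_pow, H.hyp.comm_of_normalizes hcop hj hnG hsS, mul_inv_cancel_right]
  have hRp : IsPGroup p φ.range := by
    rintro ⟨_, m, rfl⟩
    exact (hR m).imp fun j hj => Subtype.ext hj
  -- the image is nontrivial
  obtain ⟨g, hg, s, hs, hne⟩ := exists_normalizer_not_centralizer H.simple.1 H.simple.2.1 S
    (S.ne_bot_of_dvd_card H.even)
  let gM : M := ⟨g, E.norm hg⟩
  let sM : M := ⟨s, hSM hs⟩
  have hsM : sM ∈ (SM : Subgroup M) := by rw [hSMdef, Sylow.coe_subtype]; exact hs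
  have hnt : φ gM ≠ 1 := by
    intro e
    have h1 := congrArg (fun f : MulAut Sb => ((f ⟨π sM, mem_map_of_mem π hsM⟩ : Sb) :
      M ⧸ Cfsg.oddCore ↥M)) e
    simp only [φ, MonoidHom.comp_apply, MulAut.conjNormal_apply, MulAut.one_apply] at h1
    rw [← map_inv, ← map_mul, ← map_mul, ← mul_inv_eq_one, ← map_inv, ← map_mul] at h1
    have h2 : gM * sM * gM⁻¹ * sM⁻¹ ∈ Cfsg.oddCore ↥M := (QuotientGroup.eq_one_iff _).1 h1
    have h3 : gM * sM * gM⁻¹ * sM⁻¹ ∈ (SM : Subgroup M) := by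
      rw [hSMdef, Sylow.coe_subtype]
      exact mul_mem ((mem_normalizer_iff.1 hg s).1 hs) (inv_mem hs)
    have h4 := CfsgLib.LocalEvenB.eq_one_of_mem_two SM.2 h3
      (CfsgLib.LocalEvenB.odd_orderOf_of_mem (CfsgLib.ZStar.odd_card_oddCore _) h2)
    refine hne ?_
    have h5 := congrArg Subtype.val h4
    exact mul_inv_eq_one.1 h5
  haveI : Nontrivial φ.range := ⟨⟨⟨φ gM, gM, rfl⟩, 1, fun e => hnt (congrArg Subtype.val e)⟩⟩
  haveI : Group.IsNilpotent φ.range := hRp.isNilpotent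
  have hlt : commutator φ.range < ⊤ := Group.IsSolvable.commutator_lt_top_of_nontrivial _
  obtain ⟨r, -, hr⟩ := SetLike.exists_of_lt hlt
  obtain ⟨_, m, rfl⟩ := r
  refine ⟨Abelianization φ.range, inferInstance, Abelianization.of.comp φ.rangeRestrict, fun c => ?_,
    m, fun e => hr ?_⟩
  · have hs : Function.Surjective (Abelianization.of (G := φ.range)) := QuotientGroup.mk'_surjective _
    obtain ⟨r, rfl⟩ := hs c
    obtain ⟨j, hj⟩ := hRp r
    exact ⟨j, by rw [← map_pow, hj, map_one]⟩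
  · exact (QuotientGroup.eq_one_iff _).1 e

/-- The Sylow 2-subgroup meets `O_{p'}(M)` in all its involutions. -/
theorem EvenHyp.omega_le_pPrimeCore (E : Embedded S A M) :
    A ≤ (Cfsg.pPrimeCore p ↥M).map M.subtype := by
  haveI : Fact (Nat.Prime 2) := ⟨Nat.prime_two⟩
  by_contra hA
  have hMs := H.solvable E.max.1
  have hSM := H.sylow_le E
  haveI : (Cfsg.pPrimeCore p ↥M).Normal := CfsgLib.Core.normal_pPrimeCore p M
  set B := Cfsg.pPrimeCore p ↥M with hB
  -- `B` has odd order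
  have hBo : ¬ 2 ∣ Nat.card B := by
    intro hd
    obtain ⟨t, ht⟩ := exists_prime_orderOf_dvd_card' (G := B) 2 hd
    rw [← Subgroup.orderOf_coe, ← Subgroup.orderOf_coe] at ht
    apply hA
    intro a ha
    rcases eq_or_ne a 1 with rfl | ha1
    · exact one_mem _
    obtain ⟨m, hm, e⟩ := H.exists_mem_conj E ((t : M) : M).2 (hSM (E.omega.le ha)) ht
      (E.omega.orderOf_eq ha ha1)
    exact ⟨⟨m, hm⟩ * (t : M) * ⟨m, hm⟩⁻¹, Subgroup.Normal.conj_mem inferInstance _ t.2 _, e⟩
  obtain ⟨P⟩ : Nonempty (Sylow p M) := inferInstance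
  have hPb : (P : Subgroup M) ≠ ⊥ := P.ne_bot_of_dvd_card (H.dvd_card E)
  set Z := Cfsg.centerThompsonOf p (P : Subgroup M) with hZ
  set PG := (P : Subgroup M).map M.subtype with hPG
  set X := normalizer (Cfsg.centerThompsonOf p PG : Set G) with hX
  have hZG : Z.map M.subtype = Cfsg.centerThompsonOf p PG :=
    CfsgLib.Transfer.centerThompsonOf_map M.subtype _ (by rw [M.ker_subtype]; exact disjoint_bot_right)
  -- `X` contains a Sylow 2-subgroup of `M`
  set HZ := normalizer (Z : Set M) with hHZ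
  have hfac : HZ ⊔ B = ⊤ := sup_normalizer_zj H.five hMs P
  have hidx : ¬ 2 ∣ HZ.index := by
    intro hd
    have h1 : Nat.card M ∣ Nat.card HZ * Nat.card B := by
      have := CfsgLib.Core.card_sup_dvd HZ B (CfsgLib.Core.le_normalizer_of_normal HZ B)
      rwa [hfac, card_top] at this
    rw [← HZ.card_mul_index, Nat.mul_dvd_mul_iff_left Nat.card_pos] at h1
    exact hBo (hd.trans h1)
  obtain ⟨T⟩ : Nonempty (Sylow 2 HZ) := inferInstance
  let T' : Sylow 2 M := (T.2.map HZ.subtype).toSylow (by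
    rw [index_map_subtype]
    exact Nat.prime_two.not_dvd_mul T.not_dvd_index hidx)
  obtain ⟨m, hm⟩ := MulAction.exists_smul_eq M (S.subtype hSM) T'
  set V := A.map (MulAut.conj (m : G)).toMonoidHom with hV
  have hVX : V ≤ X := by
    rintro _ ⟨a, ha, rfl⟩
    have h1 : m * ⟨a, hSM (E.omega.le ha)⟩ * m⁻¹ ∈ (T' : Subgroup M) := by
      rw [← hm, Sylow.coe_subgroup_smul]
      exact ⟨⟨a, hSM (E.omega.le ha)⟩, by rw [Sylow.coe_subtype]; exact E.omega.le ha, rfl⟩
    have h2 : m * ⟨a, hSM (E.omega.le ha)⟩ * m⁻¹ ∈ HZ := map_subtype_le _ h1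
    have h3 := le_normalizer_map M.subtype (mem_map_of_mem M.subtype h2)
    rw [hZG] at h3
    exact h3
  have hVM : V ≤ M := by
    rintro _ ⟨a, ha, rfl⟩
    exact mul_mem (mul_mem m.2 (hSM (E.omega.le ha))) (inv_mem m.2)
  have hPGp : IsPGroup p PG := P.2.map _
  have hZb : Cfsg.centerThompsonOf p PG ≠ ⊥ := CfsgLib.Transfer.centerThompsonOf_ne_bot hPGp (by
    rw [hPG, Ne, map_eq_bot_iff_of_injective _ M.subtype_injective]; exact hPb)
  have hXt : X ≠ ⊤ := H.not_normal hZb fun e =>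
    E.max.1 (top_le_iff.1 (e.ge.trans (hZG.ge.trans (map_subtype_le _))))
  have hV4 : 4 ≤ Nat.card V := by
    rw [hV, card_map_of_injective (MulAut.conj (m : G)).injective]
    exact le_trans (by norm_num) E.omega.card
  have hXM : X ≤ M :=
    H.le_of_four E (CfsgLib.Signalizer.map_isElementary _ E.omega.elem) hV4 hVM hVX hXt
  -- `P` is a Sylow subgroup of `G`
  obtain ⟨Q, hQ⟩ := hPGp.exists_le_sylow
  have hQeq : (Q : Subgroup G) = PG := by
    by_contra hne
    obtain ⟨z, ⟨hzQ, hzN⟩, hzP⟩ := SetLike.exists_of_lt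
      (CfsgLib.Transfer.lt_inf_normalizer Q.2 (lt_of_le_of_ne hQ (Ne.symm hne)))
    have hz : z ∈ M := hXM (normalizer_le_normalizer_centerThompsonOf PG hzN)
    have hle : (P : Subgroup M) ≤ (Q : Subgroup G).subgroupOf M := fun x hx =>
      hQ (mem_map_of_mem M.subtype hx)
    have := P.3 (Q.2.comap_subtype (K := M)) hle
    exact hzP ⟨⟨z, hz⟩, this ▸ (show (⟨z, hz⟩ : M) ∈ (Q : Subgroup G).subgroupOf M from hzQ), rfl⟩
  have hidxM : ¬ p ∣ M.index := fun hd => Q.not_dvd_index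
    (hd.trans (index_dvd_of_le (hQeq.le.trans (map_subtype_le _))))
  -- transfer
  obtain ⟨C, _, ψ, hpC, m₀, hm₀⟩ := H.exists_pQuotient E
  obtain ⟨j, hj⟩ := exists_pow_coprime (p := p) m₀
  set c := orderOf (m₀ ^ p ^ j) with hc
  set g₀ := m₀ ^ c with hg₀
  have hg₀p : IsPGroup p (zpowers g₀) := by
    have hd : orderOf g₀ ∣ p ^ j := orderOf_dvd_of_pow_eq_one (by
      rw [hg₀, ← pow_mul, mul_comm, pow_mul, hc, pow_orderOf_eq_one])
    obtain ⟨k, -, hk⟩ := (Nat.dvd_prime_pow Fact.out).1 hd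
    exact IsPGroup.of_card (n := k) (by rw [Nat.card_zpowers, hk])
  have hψg₀ : ψ g₀ ≠ 1 := fun e => hm₀ (CfsgLib.TwoGroups.eq_one_of_pow_coprime hj.symm (hpC _)
    (by rw [← map_pow, ← hg₀]; exact e))
  obtain ⟨P', hP'⟩ := hg₀p.exists_le_sylow
  obtain ⟨k₀, hk₀⟩ := MulAction.exists_smul_eq M P' P
  have hψconj : ∀ a b : M, ψ (a * b * a⁻¹) = ψ b := fun a b => by
    rw [map_mul, map_mul, map_inv, mul_right_comm, mul_inv_cancel, one_mul]
  set g₁ := k₀ * g₀ * k₀⁻¹ with hg₁
  have hg₁P : g₁ ∈ (P : Subgroup M) := by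
    rw [← hk₀, Sylow.coe_subgroup_smul]
    exact ⟨g₀, hP' (mem_zpowers g₀), rfl⟩
  have hctrl := CfsgLib.TwoGroups.transfer_eq_pow_of_controlled ψ (g := (g₁ : G)) g₁.2 (by
    intro n a ha
    rw [← map_pow]
    set x : M := g₁ ^ n with hx
    have hxP : x ∈ (P : Subgroup M) := pow_mem hg₁P n
    obtain ⟨jx, hjx⟩ := IsPGroup.iff_orderOf.1 P.2 ⟨x, hxP⟩
    rw [Subgroup.orderOf_mk] at hjx
    set u : M := ⟨a * (g₁ : G) ^ n * a⁻¹, ha⟩ with hu
    have hup : IsPGroup p (zpowers u) := IsPGroup.of_card (n := jx) (by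
      rw [Nat.card_zpowers, ← Subgroup.orderOf_coe]
      show orderOf (a * (g₁ : G) ^ n * a⁻¹) = _
      rw [CfsgLib.Signalizer.orderOf_conj, ← hjx, ← Subgroup.orderOf_coe x, hx, SubgroupClass.coe_pow])
    obtain ⟨P'', hP''⟩ := hup.exists_le_sylow
    obtain ⟨k, hk⟩ := MulAction.exists_smul_eq M P'' P
    have huP : k * u * k⁻¹ ∈ (P : Subgroup M) := by
      rw [← hk, Sylow.coe_subgroup_smul]
      exact ⟨u, hP'' (mem_zpowers u), rfl⟩
    obtain ⟨w, hw, e⟩ := Cfsg.Agent.S0118.result (p := p) (fun e => by have := H.five; omega)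
      H.not_involves Q ({(x : G)} : Set G)
      (Set.singleton_subset_iff.2 (hQeq.ge (mem_map_of_mem M.subtype hxP))) (((k : G) * a)⁻¹) (by
        rw [Set.image_singleton, Set.singleton_subset_iff]
        refine hQeq.ge ⟨k * u * k⁻¹, huP, ?_⟩
        show (k : G) * (a * (g₁ : G) ^ n * a⁻¹) * (k : G)⁻¹ = _
        rw [hx, SubgroupClass.coe_pow]
        group)
    have hwM : w ∈ M := by rw [hQeq] at hw; exact hXM hw
    have he : k * u * k⁻¹ = ⟨w, hwM⟩⁻¹ * x * ⟨w, hwM⟩⁻¹⁻¹ := Subtype.ext (by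
      show (k : G) * (a * (g₁ : G) ^ n * a⁻¹) * (k : G)⁻¹ = w⁻¹ * (x : G) * w⁻¹⁻¹
      rw [inv_inv, e _ rfl, hx, SubgroupClass.coe_pow]
      group)
    have h := congrArg ψ he
    rw [hψconj, hψconj] at h
    rw [h])
  -- the transfer to an abelian group is trivial
  haveI := H.simple.1
  have htriv : MonoidHom.transfer ψ (g₁ : G) = 1 := by
    rcases IsSimpleGroup.eq_bot_or_eq_top_of_normal _
      (MonoidHom.normal_ker (MonoidHom.transfer ψ)) with e | e
    · refine absurd ⟨⟨fun a b => ?_⟩⟩ H.simple.2.1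
      exact (MonoidHom.ker_eq_bot_iff _).1 e (by rw [map_mul, map_mul, mul_comm])
    · exact MonoidHom.mem_ker.1 (e ▸ mem_top _)
  rw [htriv] at hctrl
  refine hψg₀ ?_
  have h1 := CfsgLib.TwoGroups.eq_one_of_pow_coprime
    ((Fact.out : p.Prime).coprime_iff_not_dvd.2 hidxM) (hpC _) hctrl.symm
  rwa [Subtype.coe_eta, hg₁, hψconj] at h1

end CfsgLib.Techniques.PPrimeAbelian
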