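import Cfsg.Agent.Lib.Techniques.PPrimeAbelian.Basic
import Cfsg.Agent.Lib.OddLocal.Frob12.NotAllTypeOne
import Cfsg.Agent.Lib.OddLocal.SigmaOrderP
import Cfsg.Agent.Lib.OddLocal.BetaCore
import Cfsg.Agent.Lib.TwoGroups.SCNUnique
import Cfsg.Agent.Lib.OddLocal.SylowUnique
import Cfsg.Agent.Lib.Components.CyclicSylowSimple

/-!
Owner: helper11. No minimal simple group of odd order has all its `p'`-subgroups abelian of exponent
dividing `p - 1`: every `κ(M)` would be empty.
-/

set_option autoImplicit false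
set_option linter.all false
set_option maxHeartbeats 400000

namespace CfsgLib.Techniques.PPrimeAbelian

open Subgroup
open CfsgLib.OddLocal CfsgLib.TwoGroups

variable {G : Type*} [Group G] [Finite G] {p : ℕ} [Fact p.Prime]

/-- A maximal subgroup whose `σ` has a prime other than `p`. -/
def NType (p : ℕ) (M : Subgroup G) : Prop := ∃ s ∈ Cfsg.sigma M, s ≠ p

/-- The standing hypotheses. -/
structure OddHyp (p : ℕ) (G : Type*) [Group G] : Prop where
  simple : Cfsg.IsMinSimpleOddOrder G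
  hyp : Hyp p G
  five : 5 ≤ p

variable (H : OddHyp p G)
include H

theorem OddHyp.centralizer_proper {x : G} (hx : x ≠ 1) : centralizer ({x} : Set G) ≠ ⊤ :=
  centralizer_ne_top' H.simple.2.1 H.simple.2.2.1 hx

theorem OddHyp.solvable {X : Subgroup G} (hX : X ≠ ⊤) : Group.IsSolvable X := H.simple.2.2.2 X hX

theorem OddHyp.sylow_comm {r : ℕ} [Fact r.Prime] (hrp : r ≠ p) (R : Sylow r G) {a b : G}
    (ha : a ∈ (R : Subgroup G)) (hb : b ∈ (R : Subgroup G)) : a * b = b * a :=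
  H.hyp.comm (coprime_of_isPGroup Fact.out hrp R.2) ha hb

theorem OddHyp.unique {r : ℕ} [Fact r.Prime] (hrp : r ≠ p) (R : Sylow r G)
    (hrd : r ∣ Nat.card G) : Cfsg.InUniqueMaximal (R : Subgroup G) := by
  obtain ⟨E, hER, hEc, hEr, hE3, -⟩ :=
    H.hyp.exists_elementary H.five H.simple.2.1 H.simple.2.2.1 hrp hrd R
  refine Uniqueness.inUniqueMaximal_mono
    (SCNUnique.inUniqueMaximal_elementary H.simple ⟨hEc, hEr⟩ hE3) (fun e => ?_) hER
  exact H.simple.2.2.1 ⟨⟨fun a b => H.sylow_comm hrp R (e ▸ mem_top a) (e ▸ mem_top b)⟩⟩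

theorem OddHyp.only {r : ℕ} [Fact r.Prime] (hrp : r ≠ p) {R : Sylow r G} (hrd : r ∣ Nat.card G)
    {M L : Subgroup G} (hM : IsCoatom M) (hRM : (R : Subgroup G) ≤ M) (hL : IsCoatom L)
    (hRL : (R : Subgroup G) ≤ L) : L = M :=
  (H.unique hrp R hrd).unique ⟨hL, hRL⟩ ⟨hM, hRM⟩

/-- Centralisers of the nontrivial elements of a Sylow `r`-subgroup lie in its maximal subgroup. -/
theorem OddHyp.centralizer_le {r : ℕ} [Fact r.Prime] (hrp : r ≠ p) {R : Sylow r G}
    {M : Subgroup G} (hM : IsCoatom M) (hRM : (R : Subgroup G) ≤ M) {y : G}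
    (hy : y ∈ (R : Subgroup G)) (hy1 : y ≠ 1) : centralizer ({y} : Set G) ≤ M := by
  have hrd : r ∣ Nat.card G := by
    refine dvd_trans ?_ (card_subgroup_dvd_card (R : Subgroup G))
    rcases R.2.card_eq_or_dvd with e | e
    · exact absurd (card_eq_one.1 e ▸ hy) (by simpa [mem_bot] using hy1)
    · exact e
  obtain ⟨L, hL, hCL⟩ := (eq_top_or_exists_le_coatom _).resolve_left (H.centralizer_proper hy1)
  rw [H.only hrp hrd hM hRM hL ((fun a ha => mem_centralizer_singleton_iff.2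
    (H.sylow_comm hrp R ha hy)) |> fun h => le_trans h hCL)] at hCL
  exact hCL

theorem OddHyp.mem_sigma_of_sylow_le {r : ℕ} [Fact r.Prime] (hrp : r ≠ p) {R : Sylow r G}
    (hrd : r ∣ Nat.card G) {M : Subgroup G} (hM : IsCoatom M) (hRM : (R : Subgroup G) ≤ M) :
    r ∈ Cfsg.sigma M := by
  refine ⟨Fact.out, ((R.dvd_card_of_dvd_card hrd).trans (card_dvd_of_le hRM)), R.subtype hRM, ?_⟩
  rw [Sylow.coe_subtype, map_subgroupOf_eq_of_le hRM]
  intro g hg
  have hconj := (mem_normalizer_iff_map_conj_eq).1 hg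
  have he : M.map (MulAut.conj g).toMonoidHom = M :=
    H.only hrp hrd hM hRM (SylowUnique.isCoatom_conj hM g) (hconj.ge.trans (map_mono hRM))
  have hgN : g ∈ normalizer (M : Set G) := mem_normalizer_iff_map_conj_eq.2 he
  rwa [Support.normalizer_eq_self H.simple hM] at hgN

omit H [Fact p.Prime] in
theorem sylow_le_of_sigma {r : ℕ} [Fact r.Prime] {M : Subgroup G} (hr : r ∈ Cfsg.sigma M) :
    ∃ S : Sylow r G, (S : Subgroup G) ≤ M := by
  obtain ⟨R⟩ : Nonempty (Sylow r M) := inferInstance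
  obtain ⟨S, hS⟩ := SigmaTrans.sigma_sylow hr R
  exact ⟨S, hS.le.trans (map_subtype_le _)⟩

theorem OddHyp.ne_top {M : Subgroup G} (hM : IsCoatom M) : M ≠ ⊤ := hM.1

/-- In an N-type maximal subgroup every `p'`-element of prime order has its centraliser and its
prime in `σ`. -/
theorem OddHyp.step {M : Subgroup G} (hM : IsCoatom M) (hN : NType p M) {q : ℕ} [Fact q.Prime]
    (hqp : q ≠ p) {x : G} (hxM : x ∈ M) (hx : orderOf x = q) :
    centralizer ({x} : Set G) ≤ M ∧ q ∈ Cfsg.sigma M := by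
  obtain ⟨s, hs, hsp⟩ := hN
  have := Fact.mk hs.1
  have hx1 : x ≠ 1 := fun e => (Fact.out : q.Prime).ne_one (by rw [← hx, e, orderOf_one])
  have hxp : (orderOf x).Coprime p := hx ▸ (Nat.coprime_primes Fact.out Fact.out).2 hqp
  have hqd : q ∣ Nat.card G := hx ▸ orderOf_dvd_natCard x
  obtain ⟨S, hS⟩ := sylow_le_of_sigma hs
  obtain ⟨S', hS'M, hS'x⟩ := exists_full_sylow_commuting H.hyp (H.solvable hM.1) hsp S hS hxM hxp
  have hsd : s ∣ Nat.card G := hs.2.1.trans (card_subgroup_dvd_card M)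
  obtain ⟨z, hz⟩ := exists_prime_orderOf_dvd_card' (G := (S' : Subgroup G)) s
    (S'.dvd_card_of_dvd_card hsd)
  rw [← Subgroup.orderOf_coe] at hz
  have hz1 : (z : G) ≠ 1 := fun e => hs.1.ne_one (by rw [← hz, e, orderOf_one])
  have hCz := H.centralizer_le hsp hM hS'M z.2 hz1
  obtain ⟨R, hR⟩ := (IsPGroup.of_card (p := q) (G := zpowers x) (n := 1)
    (by rw [Nat.card_zpowers, hx, pow_one])).exists_le_sylow
  have hRX : (R : Subgroup G) ≤ centralizer ({x} : Set G) := fun a ha =>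
    mem_centralizer_singleton_iff.2 (H.sylow_comm hqp R ha (hR (mem_zpowers x)))
  obtain ⟨R', hR'X, hR'z⟩ := exists_full_sylow_commuting H.hyp
    (H.solvable (H.centralizer_proper hx1)) hqp R hRX
    (mem_centralizer_singleton_iff.2 (hS'x z z.2).symm)
    (hz.symm ▸ (Nat.coprime_primes hs.1 Fact.out).2 hsp)
  have hR'M : (R' : Subgroup G) ≤ M := fun a ha =>
    hCz (mem_centralizer_singleton_iff.2 (hR'z a ha).symm)
  have hxR' : x ∈ (R' : Subgroup G) := by
    have hp' : IsPGroup q ((R' : Subgroup G) ⊔ zpowers x : Subgroup G) := by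
      refine R'.2.to_sup_of_normal_right' (IsPGroup.of_card (n := 1)
        (by rw [Nat.card_zpowers, hx, pow_one])) fun a ha => ?_
      have := mem_centralizer_singleton_iff.1 (hR'X ha)
      rw [mem_normalizer_iff_map_conj_eq, MonoidHom.map_zpowers]
      show zpowers (a * x * a⁻¹) = zpowers x
      rw [this, mul_inv_cancel_right]
    have := R'.3 hp' le_sup_left
    exact this ▸ mem_sup_right (mem_zpowers x)
  exact ⟨H.centralizer_le hqp hM hR'M hxR' hx1, H.mem_sigma_of_sylow_le hqp hqd hM hR'M⟩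

theorem OddHyp.prime_mem_sigma {M : Subgroup G} (hM : IsCoatom M) (hN : NType p M) {q : ℕ}
    (hq : q.Prime) (hqp : q ≠ p) (hd : q ∣ Nat.card M) : q ∈ Cfsg.sigma M := by
  have := Fact.mk hq
  obtain ⟨x, hx⟩ := exists_prime_orderOf_dvd_card' (G := M) q hd
  exact (H.step hM hN hqp x.2 (by rw [Subgroup.orderOf_coe, hx])).2

theorem OddHyp.not_mem_sigma {M : Subgroup G} (hM : IsCoatom M) (hN : NType p M) :
    p ∉ Cfsg.sigma M := by
  intro hp
  obtain ⟨⟨hle, -, hidx⟩, -, -⟩ := SigmaCore.sigmaCore_hall H.simple hM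
  have h1 : (Cfsg.sigmaCore M).relIndex M = 1 := by
    by_contra hne
    obtain ⟨l, hl, hd⟩ := Nat.exists_prime_and_dvd hne
    have hlM : l ∣ Nat.card M := hd.trans (index_dvd_card _)
    by_cases e : l = p
    · exact hidx l hl (e ▸ hp) hd
    · exact hidx l hl (H.prime_mem_sigma hM hN hl e hlM) hd
  rw [relIndex_eq_one] at h1
  have h2 : M ≤ ⁅M, M⁆ := h1.trans (BetaCore.sigmaCore_le_derived H.simple hM)
  haveI := H.solvable hM.1
  haveI : Nontrivial M := (nontrivial_iff_ne_bot M).2 fun e => by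
    subst e
    exact absurd (TauTwo.sigmaCore_ne_bot H.simple hM)
      (not_not.2 (le_bot_iff.1 (map_subtype_le _)))
  refine (Group.IsSolvable.commutator_lt_top_of_nontrivial M).ne (eq_top_iff.2 fun a _ => ?_)
  have := h2 a.2
  rw [← map_subtype_commutator] at this
  obtain ⟨b, hb, e⟩ := this
  exact M.subtype_injective e ▸ hb

/-- A maximal subgroup that is not of N-type has `σ = {p}` and `M_σ` a `p`-group containing all its
`p`-subgroups. -/
theorem OddHyp.pType {M : Subgroup G} (hM : IsCoatom M) (hN : ¬ NType p M) :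
    p ∈ Cfsg.sigma M ∧ IsPGroup p (Cfsg.sigmaCore M) := by
  have hall : ∀ l ∈ Cfsg.sigma M, l = p := fun l hl => by
    by_contra hne
    exact hN ⟨l, hl, hne⟩
  obtain ⟨⟨-, hpi, -⟩, -, -⟩ := SigmaCore.sigmaCore_hall H.simple hM
  have hne := TauTwo.sigmaCore_ne_bot H.simple hM
  obtain ⟨l, hl, hd⟩ := Nat.exists_prime_and_dvd
    (fun e : Nat.card (Cfsg.sigmaCore M) = 1 => hne (card_eq_one.1 e))
  refine ⟨hall l (hpi l hl hd) ▸ hpi l hl hd, IsPGroup.of_card
    (n := (Nat.card (Cfsg.sigmaCore M)).primeFactorsList.length)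
    (Nat.eq_prime_pow_of_unique_prime_dvd Nat.card_pos.ne' fun {d} hd1 hd2 => hall d (hpi d hd1 hd2))⟩

/-- In an N-type maximal subgroup no element of prime order `q ≠ p` centralises a Sylow
`p`-subgroup. -/
theorem OddHyp.not_centralizes_sylow {N : Subgroup G} (hN : IsCoatom N) (hNN : NType p N) {q : ℕ}
    [Fact q.Prime] (hqp : q ≠ p) {x : G} (hxN : x ∈ N) (hx : orderOf x = q) {Q : Subgroup G}
    (hQN : Q ≤ N) (hQi : ¬ p ∣ Q.relIndex N) (hQx : ∀ a ∈ Q, x * a = a * x) : False := by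
  have hqσ := (H.step hN hNN hqp hxN hx).2
  obtain ⟨⟨hAN, hApi, hAi⟩, -, -⟩ := SigmaCore.sigmaCore_hall H.simple hN
  set A := Cfsg.sigmaCore N with hA
  have hpN := H.not_mem_sigma hN hNN
  have hAp : (Nat.card A).Coprime p := (((Fact.out : p.Prime).coprime_iff_not_dvd).2 fun hd =>
    hpN (hApi p Fact.out hd)).symm
  have hxA : x ∈ A := SigmaOrderP.le_sigmaCore H.simple hN hqσ
    (IsPGroup.of_card (p := q) (G := zpowers x) (n := 1) (by rw [Nat.card_zpowers, hx, pow_one]))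
    (zpowers_le.2 hxN) (mem_zpowers x)
  -- `x` is central in `N`
  have hgen : N ≤ A ⊔ Q := by
    rw [← relIndex_eq_one]
    by_contra hne
    obtain ⟨l, hl, hd⟩ := Nat.exists_prime_and_dvd hne
    have hdA : l ∣ A.relIndex N := hd.trans (relIndex_dvd_of_le_left N le_sup_left)
    have hdQ : l ∣ Q.relIndex N := hd.trans (relIndex_dvd_of_le_left N le_sup_right)
    have hlM : l ∣ Nat.card N := hdA.trans (index_dvd_card _)
    by_cases e : l = p
    · exact hQi (e ▸ hdQ)
    · exact hAi l hl (H.prime_mem_sigma hN hNN hl e hlM) hdA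
  have hcen : N ≤ centralizer ({x} : Set G) := hgen.trans (sup_le
    (fun a ha => mem_centralizer_singleton_iff.2 (H.hyp.comm hAp ha hxA))
    fun a ha => mem_centralizer_singleton_iff.2 (hQx a ha).symm)
  -- transfer into `A`
  let A' : Subgroup N := A.subgroupOf N
  have hA'p : (Nat.card A').Coprime p := by
    rwa [Nat.card_congr (subgroupOfEquivOfLe hAN).toEquiv]
  letI : CommGroup A' :=
    { (inferInstance : Group A') with
      mul_comm := fun a b => Subtype.ext (Subtype.ext (H.hyp.comm hAp a.2 b.2)) }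
  let xn : N := ⟨x, hxN⟩
  have key : ∀ (k : ℕ) (g₀ : N), g₀⁻¹ * xn ^ k * g₀ ∈ A' → g₀⁻¹ * xn ^ k * g₀ = xn ^ k := by
    intro k g₀ _
    have hc : Commute xn g₀ := Subtype.ext (mem_centralizer_singleton_iff.1 (hcen g₀.2)).symm
    rw [mul_assoc, (hc.pow_left k).eq, inv_mul_cancel_left]
  have h1 := MonoidHom.transfer_eq_pow (MonoidHom.id A') xn key
  have hxder : (xn : G) ∈ ⁅N, N⁆ := BetaCore.sigmaCore_le_derived H.simple hN hxA
  rw [← map_subtype_commutator] at hxder
  obtain ⟨b, hb, e⟩ := hxder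
  have e' : b = xn := N.subtype_injective e
  rw [e'] at hb
  have h2 : MonoidHom.transfer (MonoidHom.id A') xn = 1 :=
    Abelianization.commutator_subset_ker (MonoidHom.transfer (MonoidHom.id A')) hb
  rw [h2] at h1
  have h3 : x ^ A'.index = 1 := (congrArg (fun a : A' => ((a : N) : G)) h1).symm
  have h4 : q ∣ A'.index := hx ▸ orderOf_dvd_of_pow_eq_one h3
  exact hAi q Fact.out hqσ h4

/-- A maximal subgroup with `σ = {p}` has no element of prime order `q ≠ p` commuting with a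
nontrivial element of `M_σ`. -/
theorem OddHyp.no_pType_fixed {q : ℕ} [Fact q.Prime] (hqp : q ≠ p) {x : G} (hx : orderOf x = q) :
    ∀ M : Subgroup G, IsCoatom M → ¬ NType p M → x ∈ M → ∀ y ∈ Cfsg.sigmaCore M,
      x * y = y * x → y = 1 := by
  by_contra hno
  push Not at hno
  obtain ⟨M₁, hM₁, hP₁, hxM₁, y, hy, hyx, hy1⟩ := hno
  have hx1 : x ≠ 1 := fun e => (Fact.out : q.Prime).ne_one (by rw [← hx, e, orderOf_one])
  obtain ⟨M, ⟨hM, hP, hxM⟩, hmax⟩ := Set.exists_max_image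
    {M : Subgroup G | IsCoatom M ∧ ¬ NType p M ∧ x ∈ M}
    (fun M => Nat.card ↥(Cfsg.sigmaCore M ⊓ centralizer ({x} : Set G))) (Set.toFinite _)
    ⟨M₁, hM₁, hP₁, hxM₁⟩
  set P := Cfsg.sigmaCore M with hPdef
  set Q := P ⊓ centralizer ({x} : Set G) with hQdef
  have hQ1 : Q ≠ ⊥ := by
    intro e
    have h1 : Nat.card ↥(Cfsg.sigmaCore M₁ ⊓ centralizer ({x} : Set G)) ≤ 1 := by
      have := hmax M₁ ⟨hM₁, hP₁, hxM₁⟩
      simpa [← hQdef, e] using this
    have : (⟨y, hy, mem_centralizer_singleton_iff.2 hyx.symm⟩ :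
        ↥(Cfsg.sigmaCore M₁ ⊓ centralizer ({x} : Set G))) = 1 :=
      (Finite.card_le_one_iff_subsingleton.1 h1).elim _ _
    exact hy1 (congrArg Subtype.val this)
  -- the maximal subgroup over `C(x)`
  obtain ⟨R, hR⟩ := (IsPGroup.of_card (p := q) (G := zpowers x) (n := 1)
    (by rw [Nat.card_zpowers, hx, pow_one])).exists_le_sylow
  have hqd : q ∣ Nat.card G := hx ▸ orderOf_dvd_natCard x
  obtain ⟨N, ⟨hN, hRN⟩, -⟩ := H.unique hqp R hqd
  have hCN : centralizer ({x} : Set G) ≤ N := H.centralizer_le hqp hN hRN (hR (mem_zpowers x)) hx1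
  have hqσ := H.mem_sigma_of_sylow_le hqp hqd hN hRN
  have hNN : NType p N := ⟨q, hqσ, hqp⟩
  obtain ⟨hp, hPp⟩ := H.pType hM hP
  have hxN : x ∈ N := hRN (hR (mem_zpowers x))
  obtain ⟨⟨-, hApi, -⟩, -, -⟩ := SigmaCore.sigmaCore_hall H.simple hN
  have hxA : x ∈ Cfsg.sigmaCore N := SigmaOrderP.le_sigmaCore H.simple hN hqσ
    (IsPGroup.of_card (p := q) (G := zpowers x) (n := 1) (by rw [Nat.card_zpowers, hx, pow_one]))
    (zpowers_le.2 hxN) (mem_zpowers x)
  -- `p`-subgroups of `N` normalised by `x` are centralised by `x`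
  have hfix : ∀ L : Subgroup G, IsPGroup p L → x ∈ normalizer (L : Set G) →
      ∀ a ∈ L, a ∈ N → x * a = a * x := by
    intro L hL hxL a ha haN
    have h1 : x * a * x⁻¹ * a⁻¹ ∈ L := mul_mem ((mem_normalizer_iff.1 hxL a).1 ha) (inv_mem ha)
    have h2 : x * a * x⁻¹ * a⁻¹ ∈ Cfsg.sigmaCore N := by
      rw [show x * a * x⁻¹ * a⁻¹ = x * (a * x⁻¹ * a⁻¹) by group]
      exact mul_mem hxA ((mem_normalizer_iff.1 (SigmaOrderP.le_normalizer_sigmaCore N haN) _).1
        (inv_mem hxA))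
    have h3 : x * a * x⁻¹ * a⁻¹ = 1 := by
      obtain ⟨k, hk⟩ := IsPGroup.iff_orderOf.1 hL ⟨_, h1⟩
      rw [Subgroup.orderOf_mk] at hk
      rcases Nat.eq_zero_or_pos k with rfl | hk0
      · exact orderOf_eq_one_iff.1 (by simpa using hk)
      · exfalso
        refine H.not_mem_sigma hN hNN (hApi p Fact.out ?_)
        exact (dvd_pow_self p hk0.ne').trans (hk ▸ Subgroup.orderOf_dvd_natCard _ h2)
    rwa [mul_inv_eq_one, mul_inv_eq_iff_eq_mul] at h3
  have hxnP : x ∈ normalizer (P : Set G) := SigmaOrderP.le_normalizer_sigmaCore M hxM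
  have hQP : Q ≤ P := inf_le_left
  have hQN : Q ≤ N := inf_le_right.trans hCN
  have hQp : IsPGroup p Q := hPp.to_le hQP
  have hQx : ∀ a ∈ Q, x * a = a * x := fun a ha => (mem_centralizer_singleton_iff.1 ha.2).symm
  -- `Q` is no Sylow subgroup of `N`
  obtain ⟨P₁, hP₁Q, hP₁N, hP₁p, hP₁i⟩ := CfsgLib.Transfer.exists_sylow_of_le hQN hQp
  have hlt : Q < P₁ := lt_of_le_of_ne hP₁Q fun e =>
    H.not_centralizes_sylow hN hNN hqp hxN hx hP₁N
      hP₁i (e ▸ hQx)
  have hlt2 : Q < P := by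
    refine lt_of_le_of_ne hQP fun e => ?_
    refine H.not_centralizes_sylow hN hNN hqp hxN hx hQN (fun hd => ?_) hQx
    obtain ⟨-, hall, -⟩ := SigmaCore.sigmaCore_hall H.simple hM
    exact hall.2 p Fact.out hp (hPdef ▸ e ▸ hd.trans (relIndex_dvd_index_of_le hQN))
  obtain ⟨z, ⟨hzP, hzn⟩, hzQ⟩ := SetLike.exists_of_lt (CfsgLib.Transfer.lt_inf_normalizer hP₁p hlt)
  obtain ⟨w, ⟨hwP, hwn⟩, hwQ⟩ := SetLike.exists_of_lt (CfsgLib.Transfer.lt_inf_normalizer hPp hlt2)
  have hY : normalizer (Q : Set G) ≠ ⊤ := fun e => by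
    haveI : Q.Normal := normalizer_eq_top_iff.1 e
    rcases H.simple.2.1.eq_bot_or_eq_top_of_normal Q inferInstance with e' | e'
    · exact hQ1 e'
    · exact hN.1 (top_le_iff.1 (e' ▸ hQN))
  obtain ⟨L, hL, hYL⟩ := (eq_top_or_exists_le_coatom _).resolve_left hY
  have hxL : x ∈ L := hYL (mem_normalizer_iff_map_conj_eq.2 (le_antisymm
    (by rintro _ ⟨a, ha, rfl⟩; show x * a * x⁻¹ ∈ Q; rwa [hQx a ha, mul_inv_cancel_right])
    (fun a ha => ⟨a, ha, show x * a * x⁻¹ = a by rw [hQx a ha, mul_inv_cancel_right]⟩)))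
  by_cases hLN : NType p L
  · -- `L = N`
    have hCL := (H.step hL hLN hqp hxL hx).1
    have hRC : (R : Subgroup G) ≤ centralizer ({x} : Set G) := fun a ha =>
      mem_centralizer_singleton_iff.2 (H.sylow_comm hqp R ha (hR (mem_zpowers x)))
    have := H.only hqp hqd hN hRN hL (hRC.trans hCL)
    subst this
    exact hwQ ⟨hwP, mem_centralizer_singleton_iff.2
      (hfix P hPp hxnP w hwP (hYL hwn)).symm⟩
  · obtain ⟨hpL, hPL⟩ := H.pType hL hLN
    set P' := Cfsg.sigmaCore L with hP'def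
    have hin : ∀ a ∈ normalizer (Q : Set G), (∃ k, a ^ p ^ k = 1) → a ∈ P' := by
      rintro a ha ⟨k, hk⟩
      refine SigmaOrderP.le_sigmaCore H.simple hL hpL (X := zpowers a) ?_ (zpowers_le.2 (hYL ha))
        (mem_zpowers a)
      rintro ⟨b, i, rfl⟩
      refine ⟨k, Subtype.ext ?_⟩
      show (a ^ i) ^ p ^ k = 1
      rw [← zpow_natCast, ← zpow_mul, mul_comm, zpow_mul, zpow_natCast, hk, one_zpow]
    have hpk : ∀ {U : Subgroup G}, IsPGroup p U → ∀ a ∈ U, ∃ k, a ^ p ^ k = 1 := fun hU a ha =>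
      (hU ⟨a, ha⟩).imp fun k hk => congrArg Subtype.val hk
    have hle : Q ≤ P' ⊓ centralizer ({x} : Set G) := fun a ha =>
      ⟨hin a (le_normalizer ha) (hpk hQp a ha), ha.2⟩
    have hz' : z ∈ P' ⊓ centralizer ({x} : Set G) := by
      have h1 := hin z hzn (hpk hP₁p z hzP)
      exact ⟨h1, mem_centralizer_singleton_iff.2
        (hfix P' hPL (SigmaOrderP.le_normalizer_sigmaCore L hxL) z h1 (hP₁N hzP)).symm⟩
    have hlt3 : Q < P' ⊓ centralizer ({x} : Set G) := lt_of_le_of_ne hle fun e => hzQ (e ▸ hz')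
    have hc : Nat.card Q < Nat.card ↥(P' ⊓ centralizer ({x} : Set G)) :=
      Set.Finite.card_lt_card (Set.toFinite _) (SetLike.coe_ssubset_coe.2 hlt3)
    exact absurd (hmax L ⟨hL, hLN, hxL⟩) (not_le.2 hc)

/-- Every `κ(M)` is empty. -/
theorem OddHyp.kappa_eq_empty {M : Subgroup G} (hM : IsCoatom M) : Cfsg.kappa M = ∅ := by
  ext q
  simp only [Set.mem_empty_iff_false, iff_false]
  rintro ⟨hq, hqd, hqσ, hall⟩
  have := Fact.mk hq
  obtain ⟨P₁⟩ : Nonempty (Sylow q M) := inferInstance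
  obtain ⟨hcyc, x₀, hx₀, hx₀1, y, hy, hy1, hxy⟩ := hall P₁
  obtain ⟨k, hk⟩ := IsPGroup.iff_orderOf.1 P₁.2 ⟨x₀, hx₀⟩
  rw [Subgroup.orderOf_mk] at hk
  have hk1 : 1 ≤ k := by
    by_contra h0
    rw [show k = 0 by omega, pow_zero, orderOf_eq_one_iff] at hk
    exact hx₀1 hk
  set x := x₀ ^ q ^ (k - 1) with hxdef
  have hx : orderOf x = q := by
    rw [hxdef, orderOf_pow_of_dvd (pow_ne_zero _ hq.ne_zero) (hk ▸ pow_dvd_pow q (k.sub_le 1)), hk,
      Nat.pow_div (k.sub_le 1) hq.pos, show k - (k - 1) = 1 by omega, pow_one]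
  have hxG : orderOf (x : G) = q := by rw [Subgroup.orderOf_coe, hx]
  have hxy' : (x : G) * y = y * (x : G) := by
    rw [hxdef, SubgroupClass.coe_pow]
    exact ((show Commute (x₀ : G) y from hxy).pow_left _).eq
  by_cases hqp : q = p
  · subst hqp
    have hNM : NType q M := by
      obtain ⟨l, hl, hd⟩ := Nat.exists_prime_and_dvd (fun e : Nat.card (Cfsg.sigmaCore M) = 1 =>
        TauTwo.sigmaCore_ne_bot H.simple hM (card_eq_one.1 e))
      have hlσ := (SigmaCore.sigmaCore_hall H.simple hM).1.2.1 l hl hd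
      exact ⟨l, hlσ, fun e => hqσ (e ▸ hlσ)⟩
    -- an element of prime order of `M_σ` commuting with `x`
    obtain ⟨r, hr, hrd⟩ := Nat.exists_prime_and_dvd (fun e : orderOf y = 1 =>
      hy1 (orderOf_eq_one_iff.1 e))
    have := Fact.mk hr
    have hrσ : r ∈ Cfsg.sigma M := (SigmaCore.sigmaCore_hall H.simple hM).1.2.1 r hr
      (hrd.trans (Subgroup.orderOf_dvd_natCard _ hy))
    have hrp : r ≠ q := fun e => hqσ (e ▸ hrσ)
    set y₁ := y ^ (orderOf y / r) with hy₁
    have hy₁o : orderOf y₁ = r := orderOf_pow_orderOf_div (orderOf_pos y).ne' hrd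
    have hy₁x : y₁ * (x : G) = (x : G) * y₁ :=
      (((show Commute (x : G) y from hxy').pow_right _).eq).symm
    have hy₁M : y₁ ∈ M := pow_mem (map_subtype_le _ hy) _
    have hx1 : (x : G) ≠ 1 := fun e => hq.ne_one (by rw [← hxG, e, orderOf_one])
    have hX : normalizer ((zpowers (x : G) : Subgroup G) : Set G) ≠ ⊤ := fun e => by
      haveI : (zpowers (x : G)).Normal := normalizer_eq_top_iff.1 e
      rcases H.simple.2.1.eq_bot_or_eq_top_of_normal (zpowers (x : G)) inferInstance with e' | e'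
      · exact hx1 (zpowers_eq_bot.1 e')
      · exact hM.1 (top_le_iff.1 (e' ▸ zpowers_le.2 x.2))
    obtain ⟨L, hL, hXL⟩ := (eq_top_or_exists_le_coatom _).resolve_left hX
    have hy₁L : y₁ ∈ L := hXL (by
      rw [mem_normalizer_iff_map_conj_eq, MonoidHom.map_zpowers]
      show zpowers (y₁ * (x : G) * y₁⁻¹) = _
      rw [hy₁x, mul_inv_cancel_right])
    by_cases hLN : NType q L
    · have hCM := (H.step hM hNM hrp hy₁M hy₁o).1
      have hCL := (H.step hL hLN hrp hy₁L hy₁o).1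
      obtain ⟨R, hR⟩ := (IsPGroup.of_card (p := r) (G := zpowers y₁) (n := 1)
        (by rw [Nat.card_zpowers, hy₁o, pow_one])).exists_le_sylow
      have hRC : (R : Subgroup G) ≤ centralizer ({y₁} : Set G) := fun a ha =>
        mem_centralizer_singleton_iff.2 (H.sylow_comm hrp R ha (hR (mem_zpowers y₁)))
      have hrdG : r ∣ Nat.card G := hy₁o ▸ orderOf_dvd_natCard y₁
      have hLM := H.only hrp hrdG hM (hRC.trans hCM) hL (hRC.trans hCL)
      subst hLM
      -- `N(P₁) ≤ M`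
      refine hqσ ⟨hq, hqd, P₁, fun g hg => hXL ?_⟩
      have hxP : (x : G) ∈ (P₁ : Subgroup L).map L.subtype := mem_map_of_mem _ (pow_mem hx₀ _)
      have hgx : g * (x : G) * g⁻¹ ∈ (P₁ : Subgroup L).map L.subtype :=
        (mem_normalizer_iff.1 hg _).1 hxP
      haveI : IsCyclic ((P₁ : Subgroup L).map L.subtype) :=
        isCyclic_of_surjective _ (MonoidHom.subgroupMap_surjective L.subtype (P₁ : Subgroup L))
      rw [mem_normalizer_iff_map_conj_eq, MonoidHom.map_zpowers]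
      show zpowers (g * (x : G) * g⁻¹) = _
      exact CfsgLib.Components.zpowers_eq_of_isCyclic hgx hxP (CfsgLib.Signalizer.orderOf_conj g (x : G))
    · obtain ⟨hpL, -⟩ := H.pType hL hLN
      have hxL : (x : G) ∈ Cfsg.sigmaCore L := SigmaOrderP.le_sigmaCore H.simple hL hpL
        (IsPGroup.of_card (p := q) (G := zpowers (x : G)) (n := 1)
          (by rw [Nat.card_zpowers, hxG, pow_one]))
        (le_normalizer.trans hXL) (mem_zpowers _)
      exact hx1 (H.no_pType_fixed hrp hy₁o L hL hLN hy₁L x hxL hy₁x)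
  · by_cases hN : NType p M
    · exact hqσ (H.prime_mem_sigma hM hN hq hqp hqd)
    · exact hy1 (H.no_pType_fixed hqp hxG M hM hN x.2 y hy hxy')

/-- No minimal simple group of odd order satisfies the hypothesis. -/
theorem OddHyp.false : False := by
  have hall : ∀ N : Subgroup G, IsCoatom N → Cfsg.kappa N = ∅ := fun N hN => H.kappa_eq_empty hN
  have hG := H.simple
  have hCN : Cfsg.IsCNGroup G := by
    intro g hg
    obtain ⟨M, hM, a, ha, r, hr, y, rfl⟩ := (Cfsg.Agent.S1379.result hG).2.1 hall g hg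
    have hle := Frob12.centralizer_le_of_all_empty hG hall hM ha.1 ha.2
    rw [DadeSupport.supportR_of_le (hle.trans (TauTwo.sigmaCore_le M)), mem_bot] at hr
    subst hr
    rw [mul_one, ← Support.map_conj_centralizer]
    obtain ⟨K, U, h⟩ := DadeSupport.exists_decomposition hG hM
    have hnil : Group.IsNilpotent (Cfsg.sigmaCore M) := by
      rw [← (TypeFrobenius.isOfTypeF hG hM h (Frob12.kappa_bot_of_empty h (hall M hM))).2]
      exact OddLocal.fittingHallOf_nilpotent M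
    have hn2 : Group.IsNilpotent (centralizer ({a} : Set G)) := Core.isNilpotent_of_le hle
    exact Group.nilpotent_of_mulEquiv
      ((centralizer ({a} : Set G)).equivMapOfInjective _ (MulAut.conj y).injective)
  have hs : Group.IsSolvable G := Cfsg.Agent.S0183.result hG.1 hCN
  exact CNSimple.ne_top_of_solvable hG (H := (⊤ : Subgroup G)) inferInstance rfl

end CfsgLib.Techniques.PPrimeAbelian
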